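import Mathlib
import Cfsg.Agent.H609.ClassTwoOut_m3
import Cfsg.Agent.H50.HerKnown
import Cfsg.Agent.SmallSimple.S1000.PSLFacts
import Cfsg.Agent.H23.FreeAct
import Cfsg.Agent.FastGrp
import Cfsg.Agent.Prune
set_option linter.all false

section
prune_inst 0x7fffaaf9fbbe8bffdfff7e7ff698cdfc3a949fffa4dff94bffe069ffa3dfa39201c12b8d09e038fc0ed6421408a87843fb7eaefe622dd87ffffd1ff45ffbee0fa5e7bd0951d48c340fbc0ffe03f0778e7f3fffffffffffffffffffffffffffbeffbdffffffff

-- part: H184/Cov/Types_mg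
section
set_option linter.all false
open scoped Cfsg.Agent.FastGrp

-- part: H184/Cov/Field
section
/-!
# S2499, linear groups: the multiplicative groups of finite fields (helper184)

* `lift_gen` : a generator of a quotient of a finite cyclic group lifts to a generator;
* `exists_ext` : extensions of given degree;
* `card_units`, `gen_pow_eq_one`;
* `exists_gen_nm`, `exists_nm` : a generator with given norm; an element with given norm outside the base field;
* `base_pow` : the powers of a generator in the base field.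
-/

set_option autoImplicit false
set_option linter.unusedSectionVars false

namespace Cfsg.Agent.H184.Cov

open Module

/-- `a` generates the group -/
def IsGen {A : Type*} [Group A] (a : A) : Prop := ∀ x : A, x ∈ Subgroup.zpowers a

theorem IsGen.orderOf {A : Type*} [Group A] {a : A} (h : IsGen a) : orderOf a = Nat.card A := by
  rw [← Nat.card_zpowers, (Subgroup.eq_top_iff' _).2 h, Subgroup.card_top]

theorem IsGen.of_orderOf {A : Type*} [Group A] [Finite A] {a : A} (h : _root_.orderOf a = Nat.card A) : IsGen a := by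
  rw [IsGen, ← Subgroup.eq_top_iff']
  exact Subgroup.eq_top_of_card_eq _ (by rw [Nat.card_zpowers, h])

theorem IsGen.map {A B : Type*} [Group A] [Group B] {a : A} (h : IsGen a) (f : A →* B) (hf : Function.Surjective f) :
    IsGen (f a) := by
  intro x
  obtain ⟨y, rfl⟩ := hf x
  obtain ⟨i, rfl⟩ := h y
  exact ⟨i, by simp⟩

theorem IsGen.exists_pow {A : Type*} [Group A] [Finite A] {a : A} (h : IsGen a) (x : A) : ∃ i : ℕ, a ^ i = x := by
  have := h x
  rwa [← mem_powers_iff_mem_zpowers] at this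

theorem IsGen.inv {A : Type*} [Group A] {a : A} (h : IsGen a) : IsGen a⁻¹ := by
  intro x
  rw [Subgroup.zpowers_inv]
  exact h x

theorem exists_gen_of_cyclic (A : Type*) [Group A] [IsCyclic A] : ∃ a : A, IsGen a := IsCyclic.exists_generator

/-- a generator lifts to a generator -/
theorem lift_gen {A B : Type*} [Group A] [Group B] [Finite A] [IsCyclic A] (f : A →* B)
    (hf : Function.Surjective f) {b : B} (hb : IsGen b) : ∃ a : A, f a = b ∧ IsGen a := by
  obtain ⟨g, hg⟩ := exists_gen_of_cyclic A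
  have hfin : Finite B := Finite.of_surjective _ hf
  have hfg := hg.map f hf
  obtain ⟨i, hi⟩ := hfg.exists_pow b
  have hm : Nat.card B ∣ Nat.card A := Subgroup.card_dvd_of_surjective f hf
  have hB : Nat.card B ≠ 0 := Nat.card_pos.ne'
  have hA : NeZero (Nat.card A) := ⟨Nat.card_pos.ne'⟩
  have hco : Nat.Coprime i (Nat.card B) := by
    have h1 : orderOf (f g ^ i) = Nat.card B := by rw [hi, hb.orderOf]
    rw [orderOf_pow, hfg.orderOf] at h1
    rw [Nat.coprime_comm]
    have h2 := Nat.gcd_dvd_left (Nat.card B) i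
    have h3 := Nat.div_mul_cancel h2
    rw [h1] at h3
    exact Nat.eq_of_mul_eq_mul_left (Nat.pos_of_ne_zero hB) (by rw [h3, mul_one])
  obtain ⟨u, hu⟩ := ZMod.unitsMap_surjective hm (ZMod.unitOfCoprime i hco)
  obtain ⟨j, hj, hjB⟩ : ∃ j : ℕ, Nat.Coprime j (Nat.card A) ∧ (j : ZMod (Nat.card B)) = (i : ZMod (Nat.card B)) := by
    refine ⟨(u : ZMod (Nat.card A)).val, ZMod.val_coe_unit_coprime u, ?_⟩
    have h1 := congrArg (fun w : (ZMod (Nat.card B))ˣ => (w : ZMod (Nat.card B))) hu
    simp only [ZMod.unitsMap_def, Units.coe_map, MonoidHom.coe_coe, ZMod.castHom_apply, ZMod.coe_unitOfCoprime] at h1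
    rw [← h1, ZMod.natCast_val]
  refine ⟨g ^ j, ?_, IsGen.of_orderOf ?_⟩
  · rw [map_pow, ← hi]
    rw [pow_eq_pow_iff_modEq, hfg.orderOf]
    exact (ZMod.natCast_eq_natCast_iff _ _ _).1 hjB
  · rw [orderOf_pow, hg.orderOf, Nat.Coprime.gcd_eq_one (Nat.Coprime.symm hj), Nat.div_one]

section

variable (K : Type) [Field K] [Finite K]

theorem exists_ext {k : ℕ} (hk : k ≠ 0) : ∃ (L : Type) (_ : Field L) (_ : Algebra K L) (_ : Finite L),
    finrank K L = k := by
  obtain ⟨p, hp⟩ := CharP.exists K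
  have : Fact p.Prime := ⟨CharP.char_is_prime K p⟩
  have : NeZero k := ⟨hk⟩
  exact ⟨FiniteField.Extension K p k, inferInstance, inferInstance, inferInstance, FiniteField.finrank_extension K p k⟩

variable {K} {L : Type*} [Field L] [Algebra K L] [Finite L]

theorem card_field : Nat.card L = Nat.card K ^ finrank K L :=
  have : Module.Finite K L := Module.Finite.of_finite
  Module.natCard_eq_pow_finrank

theorem card_units : Nat.card Lˣ = Nat.card K ^ finrank K L - 1 := by rw [Nat.card_units, card_field (K := K)]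

theorem card_units_base : Nat.card Kˣ = Nat.card K - 1 := Nat.card_units K

theorem one_lt_q : 1 < Nat.card K := Finite.one_lt_card

/-- the norm -/
noncomputable abbrev nm : Lˣ →* Kˣ := Units.map (Algebra.norm K (S := L))

theorem nm_surjective : Function.Surjective (nm : Lˣ →* Kˣ) := FiniteField.unitsMap_norm_surjective K L

variable (K) in
theorem exists_gen : ∃ ω : Lˣ, IsGen ω := exists_gen_of_cyclic Lˣ

theorem exists_gen_nm {ζ : Kˣ} (h : IsGen ζ) : ∃ ω : Lˣ, nm ω = ζ ∧ IsGen ω := lift_gen nm nm_surjective h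

theorem IsGen.nm {ω : Lˣ} (h : IsGen ω) : IsGen (nm ω : Kˣ) := h.map _ nm_surjective

/-- the units of the base field -/
theorem pow_eq_one_of_base {u : Lˣ} {c : K} (h : (u : L) = algebraMap K L c) : u ^ (Nat.card K - 1) = 1 := by
  have hc : c ≠ 0 := by
    rintro rfl
    rw [map_zero] at h
    exact u.ne_zero h
  have : Fintype K := Fintype.ofFinite K
  apply Units.ext
  rw [Units.val_pow_eq_pow_val, h, ← map_pow, Nat.card_eq_fintype_card, FiniteField.pow_card_sub_one_eq_one c hc,
    map_one, Units.val_one]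

/-- a power of a generator in the base field -/
theorem IsGen.base_pow {ω : Lˣ} (h : IsGen ω) {i : ℕ} {c : K} (hi : ((ω ^ i : Lˣ) : L) = algebraMap K L c) :
    Nat.card K ^ finrank K L - 1 ∣ i * (Nat.card K - 1) := by
  have h1 := pow_eq_one_of_base hi
  rw [← pow_mul] at h1
  rw [← card_units, ← h.orderOf]
  exact orderOf_dvd_of_pow_eq_one h1

/-- an element of given norm outside the base field -/
theorem exists_nm (h2 : 2 ≤ finrank K L) (ζ : Kˣ) : ∃ ω : Lˣ, nm ω = ζ ∧ ∀ c : K, (ω : L) ≠ algebraMap K L c := by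
  obtain ⟨u, hu⟩ := nm_surjective (K := K) (L := L) ζ
  by_cases h : ∀ c : K, (u : L) ≠ algebraMap K L c
  · exact ⟨u, hu, h⟩
  · push Not at h
    obtain ⟨c, hc⟩ := h
    obtain ⟨g, hg⟩ := exists_gen (L := L)
    refine ⟨u * g ^ (Nat.card K - 1), ?_, fun d hd => ?_⟩
    · rw [map_mul, hu, map_pow]
      have h1 : (nm g : Kˣ) ^ (Nat.card K - 1) = 1 := by
        rw [← card_units_base]
        exact pow_card_eq_one'
      rw [h1, mul_one]
    · have h1 := pow_eq_one_of_base hd
      rw [mul_pow, pow_eq_one_of_base hc, one_mul, ← pow_mul] at h1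
      have h2' := orderOf_dvd_of_pow_eq_one h1
      rw [hg.orderOf, card_units (K := K)] at h2'
      have hq := one_lt_q (K := K)
      have h3 : 0 < (Nat.card K - 1) * (Nat.card K - 1) := Nat.mul_pos (by omega) (by omega)
      have h4 := Nat.le_of_dvd h3 h2'
      have h5 : Nat.card K ^ 2 ≤ Nat.card K ^ finrank K L := Nat.pow_le_pow_right (by omega) h2
      obtain ⟨m, hm⟩ : ∃ m, Nat.card K = m + 2 := ⟨Nat.card K - 2, by omega⟩
      rw [hm] at h4 h5
      have h6 : (m + 2 - 1) * (m + 2 - 1) = (m + 1) * (m + 1) := by norm_num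
      rw [h6] at h4
      have h7 : (m + 2) ^ 2 = (m + 1) * (m + 1) + 2 * m + 3 := by ring
      omega

end

end Cfsg.Agent.H184.Cov
end

-- part: H184/Cov/Types
section
/-!
# S2499, linear groups: the elements (helper184)

* `OneT g L ω` : `g` acts on `V ≃ L` as the multiplication with `ω`;
* `TwoT g L M ω ν` : `g` acts on `V ≃ L × M` as the multiplication with `(ω, ν)`;
* `exists_one`, `exists_two` : existence, with determinant one;
* `OneT.no_vec`, `OneT.no_fun`, `TwoT.no_vec`, `TwoT.no_fun` : no eigenvectors, no invariant hyperplanes.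
-/

set_option autoImplicit false
set_option linter.unusedSectionVars false

namespace Cfsg.Agent.H184.Cov

open Module

variable {K : Type} [Field K] {V : Type} [AddCommGroup V] [Module K V]

section defs

variable (L : Type) [Field L] [Algebra K L] (M : Type) [Field M] [Algebra K M]

/-- `g` acts as the multiplication with `ω` -/
def OneT (g : V ≃ₗ[K] V) (ω : Lˣ) : Prop := ∃ e : V ≃ₗ[K] L, ∀ v, e (g v) = ω * e v

/-- `g` acts as the multiplication with `(ω, ν)` -/
def TwoT (g : V ≃ₗ[K] V) (ω : Lˣ) (ν : Mˣ) : Prop :=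
  ∃ e : V ≃ₗ[K] L × M, ∀ v, e (g v) = ((ω : L) * (e v).1, (ν : M) * (e v).2)

/-- the multiplication with `ω` -/
def mE (ω : Lˣ) : L ≃ₗ[K] L where
  toFun a := ω * a
  map_add' a b := mul_add _ _ _
  map_smul' c a := by simp [Algebra.mul_smul_comm]
  invFun a := (ω⁻¹ : Lˣ) * a
  left_inv a := by simp
  right_inv a := by simp

theorem mE_apply (ω : Lˣ) (a : L) : mE (K := K) L ω a = ω * a := rfl

theorem det_mE (ω : Lˣ) : LinearMap.det (mE (K := K) L ω : L →ₗ[K] L) = Algebra.norm K (ω : L) := by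
  rw [Algebra.norm_apply]
  congr 1

end defs

section

variable {L : Type} [Field L] [Algebra K L] {M : Type} [Field M] [Algebra K M] {g : V ≃ₗ[K] V} {ω : Lˣ} {ν : Mˣ}

theorem OneT.conj (h : OneT L g ω) (k : V ≃ₗ[K] V) : OneT L (k * g * k⁻¹) ω := by
  obtain ⟨e, he⟩ := h
  refine ⟨k.symm.trans e, fun v => ?_⟩
  change e (k.symm (k (g (k.symm v)))) = _
  rw [LinearEquiv.symm_apply_apply, he]
  rfl

theorem TwoT.conj (h : TwoT L M g ω ν) (k : V ≃ₗ[K] V) : TwoT L M (k * g * k⁻¹) ω ν := by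
  obtain ⟨e, he⟩ := h
  refine ⟨k.symm.trans e, fun v => ?_⟩
  change e (k.symm (k (g (k.symm v)))) = _
  rw [LinearEquiv.symm_apply_apply, he]
  rfl

theorem oneT_pow {e : V ≃ₗ[K] L} (he : ∀ v, e (g v) = ω * e v) (i : ℕ) (v : V) :
    e ((g ^ i) v) = ((ω ^ i : Lˣ) : L) * e v := by
  induction i generalizing v with
  | zero => simp
  | succ i ih =>
    rw [pow_succ]
    change e ((g ^ i) (g v)) = _
    rw [ih, he, pow_succ, Units.val_mul]
    ring

theorem twoT_pow {e : V ≃ₗ[K] L × M} (he : ∀ v, e (g v) = ((ω : L) * (e v).1, (ν : M) * (e v).2)) (i : ℕ) (v : V) :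
    e ((g ^ i) v) = (((ω ^ i : Lˣ) : L) * (e v).1, ((ν ^ i : Mˣ) : M) * (e v).2) := by
  induction i generalizing v with
  | zero => simp
  | succ i ih =>
    rw [pow_succ]
    change e ((g ^ i) (g v)) = _
    rw [ih, he, pow_succ, Units.val_mul, pow_succ, Units.val_mul]
    simp only [Prod.mk.injEq]
    constructor <;> ring

theorem OneT.pow (h : OneT L g ω) (i : ℕ) : OneT L (g ^ i) (ω ^ i) := by
  obtain ⟨e, he⟩ := h
  exact ⟨e, fun v => oneT_pow he i v⟩

theorem TwoT.pow (h : TwoT L M g ω ν) (i : ℕ) : TwoT L M (g ^ i) (ω ^ i) (ν ^ i) := by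
  obtain ⟨e, he⟩ := h
  exact ⟨e, fun v => twoT_pow he i v⟩

theorem OneT.orderOf (h : OneT L g ω) : orderOf g = orderOf ω := by
  obtain ⟨e, he⟩ := h
  rw [orderOf_eq_orderOf_iff]
  intro n
  constructor
  · intro h1
    have h2 := oneT_pow he n (e.symm 1)
    rw [h1] at h2
    change e (e.symm 1) = _ at h2
    rw [LinearEquiv.apply_symm_apply, mul_one] at h2
    exact Units.ext h2.symm
  · intro h1
    apply LinearEquiv.ext
    intro v
    apply e.injective
    rw [oneT_pow he, h1, Units.val_one, one_mul]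
    rfl

theorem TwoT.pow_eq_one_iff (h : TwoT L M g ω ν) {n : ℕ} : g ^ n = 1 ↔ ω ^ n = 1 ∧ ν ^ n = 1 := by
  obtain ⟨e, he⟩ := h
  constructor
  · intro h1
    have h2 := twoT_pow he n (e.symm (1, 1))
    rw [h1] at h2
    change e (e.symm (1, 1)) = _ at h2
    rw [LinearEquiv.apply_symm_apply] at h2
    simp only [mul_one, Prod.mk.injEq] at h2
    exact ⟨Units.ext h2.1.symm, Units.ext h2.2.symm⟩
  · rintro ⟨h1, h2⟩
    apply LinearEquiv.ext
    intro v
    apply e.injective
    rw [twoT_pow he, h1, h2, Units.val_one, Units.val_one, one_mul, one_mul]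
    rfl

/-- no eigenvector, no invariant hyperplane -/
def NoEig (g : V ≃ₗ[K] V) : Prop :=
  (∀ v : V, v ≠ 0 → ∀ c : K, g v ≠ c • v) ∧
    ∀ φ : V →ₗ[K] K, φ ≠ 0 → ∀ c : K, ∃ v, φ (g v) ≠ c * φ v

theorem OneT.noEig (h : OneT L g ω) (hω : ∀ c : K, (ω : L) ≠ algebraMap K L c) : NoEig g := by
  obtain ⟨e, he⟩ := h
  refine ⟨fun v hv c hc => ?_, fun φ hφ c => ?_⟩
  · have h1 := congrArg e hc
    rw [he, map_smul, Algebra.smul_def] at h1
    exact hω c (mul_right_cancel₀ (by rwa [Ne, LinearEquiv.map_eq_zero_iff]) h1)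
  · by_contra hcon
    push Not at hcon
    apply hφ
    ext v
    -- `v = (g - c) w`
    have hd : (ω : L) - algebraMap K L c ≠ 0 := sub_ne_zero.2 (hω c)
    obtain ⟨w, hw⟩ := e.surjective (((ω : L) - algebraMap K L c)⁻¹ * e v)
    have h1 : v = g w - c • w := by
      apply e.injective
      rw [map_sub, he, map_smul, Algebra.smul_def, ← sub_mul, hw, mul_inv_cancel_left₀ hd]
    rw [h1, map_sub, hcon, map_smul, smul_eq_mul, sub_self, LinearMap.zero_apply]

theorem TwoT.noEig (h : TwoT L M g ω ν) (hω : ∀ c : K, (ω : L) ≠ algebraMap K L c)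
    (hν : ∀ c : K, (ν : M) ≠ algebraMap K M c) : NoEig g := by
  obtain ⟨e, he⟩ := h
  refine ⟨fun v hv c hc => ?_, fun φ hφ c => ?_⟩
  · have h1 := congrArg e hc
    rw [he, map_smul] at h1
    have h2 : (ω : L) * (e v).1 = c • (e v).1 := congrArg Prod.fst h1
    have h3 : (ν : M) * (e v).2 = c • (e v).2 := congrArg Prod.snd h1
    rw [Algebra.smul_def] at h2 h3
    have h4 : (e v).1 = 0 := by
      by_contra h0
      exact hω c (mul_right_cancel₀ h0 h2)
    have h5 : (e v).2 = 0 := by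
      by_contra h0
      exact hν c (mul_right_cancel₀ h0 h3)
    apply hv
    rw [← LinearEquiv.map_eq_zero_iff e]
    exact Prod.ext h4 h5
  · by_contra hcon
    push Not at hcon
    apply hφ
    ext v
    have hd : (ω : L) - algebraMap K L c ≠ 0 := sub_ne_zero.2 (hω c)
    have hd' : (ν : M) - algebraMap K M c ≠ 0 := sub_ne_zero.2 (hν c)
    obtain ⟨w, hw⟩ := e.surjective (((ω : L) - algebraMap K L c)⁻¹ * (e v).1, ((ν : M) - algebraMap K M c)⁻¹ * (e v).2)
    have h1 : v = g w - c • w := by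
      apply e.injective
      rw [map_sub, he, map_smul, hw]
      apply Prod.ext
      · change (e v).1 = (ω : L) * (((ω : L) - algebraMap K L c)⁻¹ * (e v).1) -
          c • (((ω : L) - algebraMap K L c)⁻¹ * (e v).1)
        rw [Algebra.smul_def, ← sub_mul, mul_inv_cancel_left₀ hd]
      · change (e v).2 = (ν : M) * (((ν : M) - algebraMap K M c)⁻¹ * (e v).2) -
          c • (((ν : M) - algebraMap K M c)⁻¹ * (e v).2)
        rw [Algebra.smul_def, ← sub_mul, mul_inv_cancel_left₀ hd']
    rw [h1, map_sub, hcon, map_smul, smul_eq_mul, sub_self, LinearMap.zero_apply]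

end

section exist

variable [Finite K] [Finite V] (L : Type) [Field L] [Algebra K L] [Finite L] (M : Type) [Field M] [Algebra K M] [Finite M]

theorem exists_one (hd : finrank K V = finrank K L) (ω : Lˣ) (h : nm ω = (1 : Kˣ)) :
    ∃ g : V ≃ₗ[K] V, LinearMap.det (g : V →ₗ[K] V) = 1 ∧ OneT L g ω := by
  have hV : Module.Finite K V := Module.Finite.of_finite
  have hL : Module.Finite K L := Module.Finite.of_finite
  obtain ⟨e⟩ : Nonempty (V ≃ₗ[K] L) := ⟨LinearEquiv.ofFinrankEq _ _ hd⟩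
  refine ⟨e.trans ((mE L ω).trans e.symm), ?_, e, fun v => ?_⟩
  · have h1 : ((e.trans ((mE L ω).trans e.symm) : V ≃ₗ[K] V) : V →ₗ[K] V) =
        (e.symm : L →ₗ[K] V) ∘ₗ (mE (K := K) L ω : L →ₗ[K] L) ∘ₗ (e.symm.symm : V →ₗ[K] L) := rfl
    rw [h1, LinearMap.det_conj, det_mE]
    exact congrArg Units.val h
  · simp [mE_apply]

theorem exists_two (hd : finrank K V = finrank K L + finrank K M) (ω : Lˣ) (ν : Mˣ) (h : nm ω * nm ν = (1 : Kˣ)) :
    ∃ g : V ≃ₗ[K] V, LinearMap.det (g : V →ₗ[K] V) = 1 ∧ TwoT L M g ω ν := by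
  have hV : Module.Finite K V := Module.Finite.of_finite
  have hL : Module.Finite K L := Module.Finite.of_finite
  have hM : Module.Finite K M := Module.Finite.of_finite
  obtain ⟨e⟩ : Nonempty (V ≃ₗ[K] L × M) := ⟨LinearEquiv.ofFinrankEq _ _ (by rw [hd, Module.finrank_prod])⟩
  refine ⟨e.trans (((mE L ω).prodCongr (mE M ν)).trans e.symm), ?_, e, fun v => ?_⟩
  · have h1 : ((e.trans (((mE L ω).prodCongr (mE M ν)).trans e.symm) : V ≃ₗ[K] V) : V →ₗ[K] V) =
        (e.symm : L × M →ₗ[K] V) ∘ₗ (LinearMap.prodMap (mE (K := K) L ω : L →ₗ[K] L) (mE (K := K) M ν : M →ₗ[K] M)) ∘ₗ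
          (e.symm.symm : V →ₗ[K] L × M) := rfl
    rw [h1, LinearMap.det_conj, LinearMap.det_prodMap, det_mE, det_mE]
    exact congrArg Units.val h
  · simp [mE_apply, LinearEquiv.prodCongr_apply]

end exist

theorem exists_sl {n : ℕ} {g : (Fin n → K) ≃ₗ[K] (Fin n → K)}
    (h : LinearMap.det (g : (Fin n → K) →ₗ[K] (Fin n → K)) = 1) :
    ∃ X : Matrix.SpecialLinearGroup (Fin n) K, Matrix.SpecialLinearGroup.toLin' X = g := by
  let X : Matrix.SpecialLinearGroup (Fin n) K :=
    ⟨LinearMap.toMatrix' (g : (Fin n → K) →ₗ[K] (Fin n → K)), by rw [LinearMap.det_toMatrix', h]⟩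
  refine ⟨X, ?_⟩
  apply LinearEquiv.toLinearMap_injective
  rw [Matrix.SpecialLinearGroup.toLin'_to_linearMap]
  exact Matrix.toLin'_toMatrix' _

end Cfsg.Agent.H184.Cov
end

-- part: H184/Cov/Her
section
/-!
# S2499, linear groups: Hering's theorem for subgroups of `GL_n(q)`, `n ≥ 5` (helper184)

`her` : a subgroup of `GL(V)` transitive on the points contains `SL(V)`, or preserves the structure of a vector space
over a larger field, or is a group of similarities of a symplectic form, or is contained in `ΓL₁(q ^ n)`, or has order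
2184 (`n = 6`, `q = 3`), or has a normal subgroup of order 6048 (`n = 6`, `q = 2`).
-/

set_option autoImplicit false
set_option linter.unusedSectionVars false

namespace Cfsg.Agent.H184.Cov

open Module

variable {K : Type} [Field K] [Fintype K] {V : Type} [AddCommGroup V] [Module K V] [Finite V]

/-- transitive on the points -/
def PTr (H : Subgroup (V ≃ₗ[K] V)) : Prop := ∀ v w : V, v ≠ 0 → w ≠ 0 → ∃ h ∈ H, ∃ c : K, h v = c • w

/-- the group preserves the structure of an `F`-space, `|F| = q ^ b`, `b ≥ 2` -/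
def ExtO (H : Subgroup (V ≃ₗ[K] V)) : Prop :=
  ∃ (F : Type) (_ : Field F) (_ : Fintype F) (_ : Module F V) (φ : K →+* F) (b : ℕ),
    (∀ (c : K) (v : V), c • v = φ c • v) ∧ 2 ≤ b ∧ Fintype.card F = Fintype.card K ^ b ∧ b ∣ finrank K V ∧
      ∀ h ∈ H, ∃ σ : F ≃+* F, ∀ (c : F) (v : V), h (c • v) = σ c • h v

/-- the group preserves a symplectic form up to scalars -/
def SympO (H : Subgroup (V ≃ₗ[K] V)) : Prop :=
  ∃ f : V →ₗ[K] V →ₗ[K] K, (∀ v, f v v = 0) ∧ (∀ u, (∀ v, f u v = 0) → u = 0) ∧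
    ∀ h ∈ H, ∃ μ : K, ∀ u v, f (h u) (h v) = μ * f u v

/-- the group is a group of semilinear maps of a field with `q ^ n` elements -/
def GamO (H : Subgroup (V ≃ₗ[K] V)) : Prop :=
  ∃ (F : Type) (_ : Field F) (_ : Fintype F) (e : V ≃+ F), Fintype.card F = Fintype.card K ^ finrank K V ∧
      ∀ h ∈ H, ∃ (c : F) (σ : F ≃+* F), ∀ v : V, e (h v) = c * σ (e v)

/-- the exception `SL₂(13)` -/
def ThiO (H : Subgroup (V ≃ₗ[K] V)) : Prop :=
  finrank K V = 6 ∧ Fintype.card K = 3 ∧ Nat.card H = 2184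

/-- the exception `U₃(3)` -/
def UniO (H : Subgroup (V ≃ₗ[K] V)) : Prop :=
  finrank K V = 6 ∧ Fintype.card K = 2 ∧ ∃ N : Subgroup (V ≃ₗ[K] V), N ≤ H ∧
    (∀ h ∈ H, ∀ x ∈ N, h * x * h⁻¹ ∈ N) ∧ Nat.card N = 6048

/-- the group as a group of permutations -/
def PH (H : Subgroup (V ≃ₗ[K] V)) : Subgroup (Equiv.Perm V) := H.map (MulAction.toPermHom (V ≃ₗ[K] V) V)

theorem toPerm_injective : Function.Injective (MulAction.toPermHom (V ≃ₗ[K] V) V) := by
  intro g h e
  ext v
  exact congrArg (fun f : Equiv.Perm V => f v) e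

theorem mem_PH {H : Subgroup (V ≃ₗ[K] V)} {h : Equiv.Perm V} : h ∈ PH H ↔ ∃ g ∈ H, ∀ v, h v = g v := by
  constructor
  · rintro ⟨g, hg, rfl⟩
    exact ⟨g, hg, fun v => rfl⟩
  · rintro ⟨g, hg, h1⟩
    exact ⟨g, hg, Equiv.ext fun v => (h1 v).symm⟩

theorem card_PH (H : Subgroup (V ≃ₗ[K] V)) : Nat.card (PH H) = Nat.card H :=
  (Nat.card_congr (H.equivMapOfInjective _ toPerm_injective).toEquiv).symm

/-- the determinant over an isomorphic field -/
theorem det_transport {F : Type} [Field F] [Module F V] (φ : K ≃+* F) (hφ : ∀ (c : K) (v : V), c • v = φ c • v)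
    (g : V →ₗ[K] V) (g' : V →ₗ[F] V) (h : ∀ v, g' v = g v) : LinearMap.det g' = φ (LinearMap.det g) := by
  have hV : Module.Finite K V := Module.Finite.of_finite
  let b := Module.finBasis K V
  let b' : Basis (Fin (finrank K V)) F V := b.mapCoeffs φ fun c x => (hφ c x).symm
  rw [← LinearMap.det_toMatrix b, ← LinearMap.det_toMatrix b', RingEquiv.map_det]
  congr 1
  ext i j
  rw [RingEquiv.mapMatrix_apply, Matrix.map_apply, LinearMap.toMatrix_apply, LinearMap.toMatrix_apply, h,
    show b' j = b j from Basis.mapCoeffs_apply _ _ _ _]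
  rfl

variable {H : Subgroup (V ≃ₗ[K] V)}

/-- **Hering's theorem for subgroups of `GL_n(q)`, `n ≥ 5`.** -/
theorem her (hn : 5 ≤ finrank K V) (hT : PTr H) :
    (∀ g : V ≃ₗ[K] V, LinearMap.det (g : V →ₗ[K] V) = 1 → g ∈ H) ∨ ExtO H ∨ SympO H ∨ GamO H ∨ ThiO H ∨ UniO H := by
  have hmain := Cfsg.Agent.H667.HerFin.action_of_main Cfsg.Agent.H50.Her.main Cfsg.Agent.H50.Her.altSix
    Cfsg.Agent.H50.Her.altSeven Cfsg.Agent.H50.Her.thirteen (K := K) (V := V) (Fintype.card K) (finrank K V) rfl rfl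
    (by omega) (PH H) ?_ ?_ ?_
  · rcases hmain with h | h | h
    · -- `ΓL₁`
      obtain ⟨F, iF, iF', e, hc, h⟩ := h
      refine Or.inr (Or.inr (Or.inr (Or.inl ⟨F, iF, iF', e, hc, fun h' hh => ?_⟩)))
      exact h (MulAction.toPermHom (V ≃ₗ[K] V) V h') ⟨h', hh, rfl⟩
    · obtain ⟨F, iF, iF', iM, φ, b, hφ, h2, hc, hb, hsem, hcase⟩ := h
      have hb0 : b ≠ 0 := by
        rintro rfl
        rw [mul_zero] at hb
        omega
      by_cases hb1 : b = 1
      · subst hb1
        rw [pow_one] at hc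
        have hbij : Function.Bijective φ :=
          (Fintype.bijective_iff_injective_and_card φ).2 ⟨φ.injective, hc.symm⟩
        let Φ : K ≃+* F := RingEquiv.ofBijective φ hbij
        have hΦ : ∀ (c : K) (v : V), c • v = Φ c • v := hφ
        have hΦ' : ∀ (c : F) (v : V), Φ.symm c • v = c • v := fun c v => by
          rw [hΦ, RingEquiv.apply_symm_apply]
        have hsymp : ∀ f : LinearMap.BilinForm F V, f.IsAlt → f.Nondegenerate →
            (∀ h ∈ PH H, ∀ σ : F ≃+* F, (∀ (c : F) (v : V), h (c • v) = σ c • h v) →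
              ∃ μ : F, ∀ u v, f (h u) (h v) = μ * σ (f u v)) → SympO H := by
          intro f ha hn' hs
          refine ⟨LinearMap.mk₂ K (fun u v => Φ.symm (f u v)) (fun u u' v => by simp) (fun c u v => ?_)
            (fun u v v' => by simp) (fun c u v => ?_), fun v => ?_, fun u hu => ?_, fun h hh => ?_⟩
          · rw [hΦ, map_smul, LinearMap.smul_apply, smul_eq_mul, map_mul, RingEquiv.symm_apply_apply, smul_eq_mul]
          · rw [hΦ, map_smul, smul_eq_mul, map_mul, RingEquiv.symm_apply_apply, smul_eq_mul]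
          · rw [LinearMap.mk₂_apply, ha v, map_zero]
          · refine hn'.1 u fun v => ?_
            have := hu v
            rw [LinearMap.mk₂_apply] at this
            rwa [map_eq_zero_iff _ Φ.symm.injective] at this
          · obtain ⟨μ, hμ⟩ := hs (MulAction.toPermHom (V ≃ₗ[K] V) V h) ⟨h, hh, rfl⟩ (RingEquiv.refl F) (by
              intro c v
              change h (c • v) = c • h v
              rw [← hΦ', map_smul, hΦ'])
            refine ⟨Φ.symm μ, fun u v => ?_⟩
            rw [LinearMap.mk₂_apply, LinearMap.mk₂_apply, ← map_mul]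
            exact congrArg _ (hμ u v)
        rcases hcase with h1 | ⟨f, ha, hn', -, hs⟩ | ⟨-, -, -, f, ha, hn', hs, -⟩
        · left
          intro g hg
          have hlin : ∀ (c : F) (v : V), g (c • v) = c • g v := fun c v => by rw [← hΦ', map_smul, hΦ']
          let g' : V ≃ₗ[F] V := { g with map_smul' := hlin }
          obtain ⟨h, hh, e⟩ := h1 g' (by
            apply Units.ext
            rw [LinearEquiv.coe_det, det_transport Φ hΦ (g : V →ₗ[K] V) (g' : V →ₗ[F] V) (fun v => rfl), hg, map_one]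
            rfl)
          obtain ⟨g₁, hg₁, e'⟩ := mem_PH.1 hh
          have : g₁ = g := by
            ext v
            rw [← e', e]
            rfl
          rwa [← this]
        · exact Or.inr (Or.inr (Or.inl (hsymp f ha hn' hs)))
        · exact Or.inr (Or.inr (Or.inl (hsymp f ha hn' hs)))
      · refine Or.inr (Or.inl ⟨F, iF, iF', iM, φ, b, hφ, by omega, hc, ⟨_, by rw [mul_comm]; exact hb.symm⟩,
          fun h hh => ?_⟩)
        exact hsem (MulAction.toPermHom (V ≃ₗ[K] V) V h) ⟨h, hh, rfl⟩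
    · rcases h with ⟨h, -⟩ | ⟨h, -⟩ | ⟨h, -⟩ | ⟨h, -⟩ | ⟨h1, h2, ⟨e⟩⟩ | ⟨h1, h2, E, iE, iE', hE, N, hN, ⟨e⟩⟩
      · omega
      · omega
      · omega
      · omega
      · refine Or.inr (Or.inr (Or.inr (Or.inr (Or.inl ⟨h1, h2, ?_⟩))))
        rw [← card_PH, Nat.card_congr e.toEquiv, Cfsg.Agent.H91.HerCons.card_SL_thirteen]
      · refine Or.inr (Or.inr (Or.inr (Or.inr (Or.inr ⟨h1, h2,
          (N.map (PH H).subtype).comap (MulAction.toPermHom (V ≃ₗ[K] V) V), ?_, ?_, ?_⟩))))
        · rintro x ⟨y, hy, hyx⟩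
          obtain ⟨g, hg, e'⟩ := y.2
          have : g = x := toPerm_injective (e'.trans hyx)
          rwa [← this]
        · rintro h hh x ⟨y, hy, hyx⟩
          let h' : PH H := ⟨MulAction.toPermHom (V ≃ₗ[K] V) V h, ⟨h, hh, rfl⟩⟩
          refine ⟨h' * y * h'⁻¹, hN.conj_mem y hy h', ?_⟩
          rw [map_mul, map_mul, map_inv, map_mul, map_mul, map_inv, hyx]
          rfl
        · rw [← Cfsg.Agent.SmallSimple.PSLFacts.card_psu_three_three hE, ← Nat.card_congr e.toEquiv]
          have h3 : N.map (PH H).subtype ≤ (MulAction.toPermHom (V ≃ₗ[K] V) V).range := by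
            rintro _ ⟨y, -, rfl⟩
            obtain ⟨g, hg, e'⟩ := y.2
            exact ⟨g, e'⟩
          have h4 : ((N.map (PH H).subtype).comap (MulAction.toPermHom (V ≃ₗ[K] V) V)).map
              (MulAction.toPermHom (V ≃ₗ[K] V) V) = N.map (PH H).subtype := by
            rw [Subgroup.map_comap_eq, inf_eq_right.2 h3]
          rw [Nat.card_congr (((N.map (PH H).subtype).comap (MulAction.toPermHom (V ≃ₗ[K] V) V)).equivMapOfInjective
            _ toPerm_injective).toEquiv, h4]
          exact (Nat.card_congr (N.equivMapOfInjective _ (PH H).subtype_injective).toEquiv).symm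
  · intro h hh v w
    obtain ⟨g, hg, e⟩ := mem_PH.1 hh
    rw [e, e, e, map_add]
  · intro h hh
    obtain ⟨g, hg, e⟩ := mem_PH.1 hh
    exact ⟨RingEquiv.refl K, fun c v => by rw [e, e, map_smul]; rfl⟩
  · intro v w hv hw
    obtain ⟨g, hg, c, e⟩ := hT v w hv hw
    exact ⟨MulAction.toPermHom (V ≃ₗ[K] V) V g, ⟨g, hg, rfl⟩, c, e⟩

end Cfsg.Agent.H184.Cov
end

private theorem dce_1e00c60e50e0 : _root_.True := by
  try have : _root_.True := by simp only [_root_.Cfsg.Agent.H184.Cov.IsGen.eq_1]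
  exact _root_.True.intro
end

-- part: H184/Cov/KillExt
section
prune_inst 0x5506044174002000818000662001c56b2000182004b4000282004c205808cc3ad470e21bc300512989609447838004815101904221000000a008800011d05a1840140001204010426000f000000000000000000000000000000000000000000200000000
set_option linter.all false
open scoped Cfsg.Agent.FastGrp

/-!
# S2499, linear groups: extension fields (helper184)

`ext_dvd` : if the group preserves an `F`-structure, `|F| = q ^ b`, and contains `g = (ω, ν)` with `P(ω ^ b) ≠ 0`,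
`P(ν ^ b) = 0` for a polynomial `P`, then `b` divides `dim M`.
-/

set_option autoImplicit false
set_option linter.unusedSectionVars false

namespace Cfsg.Agent.H184.Cov

open Module Polynomial

variable {K : Type} [Field K] [Fintype K] {V : Type} [AddCommGroup V] [Module K V] [Finite V]

section

variable {F : Type} [Field F] [Fintype F] [Module F V]

/-- `g ^ b` is `F`-linear -/
theorem lin_pow {φ : K →+* F} {b : ℕ} (hφ : ∀ (c : K) (v : V), c • v = φ c • v)
    (hc : Fintype.card F = Fintype.card K ^ b) [Nontrivial V] {g : V ≃ₗ[K] V} {σ : F ≃+* F}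
    (hσ : ∀ (c : F) (v : V), g (c • v) = σ c • g v) (c : F) (v : V) : (g ^ b) (c • v) = c • (g ^ b) v := by
  obtain ⟨v0, hv0⟩ := exists_ne (0 : V)
  have hfix : ∀ c : K, σ (φ c) = φ c := by
    intro c
    have h1 := hσ (φ c) v0
    rw [← hφ, map_smul, hφ] at h1
    have h2 : g v0 ≠ 0 := by rwa [Ne, LinearEquiv.map_eq_zero_iff]
    exact (smul_left_injective F h2 h1).symm
  have hpow : ∀ (i : ℕ) (c : F) (v : V), (g ^ i) (c • v) = (σ ^ i) c • (g ^ i) v := by
    intro i
    induction i with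
    | zero => intro c v; rfl
    | succ i ih =>
      intro c v
      rw [pow_succ, pow_succ]
      change (g ^ i) (g (c • v)) = (σ ^ i) (σ c) • (g ^ i) (g v)
      rw [hσ, ih]
  letI : Algebra K F := φ.toAlgebra
  let σ' : F ≃ₐ[K] F := AlgEquiv.ofRingEquiv (f := σ) hfix
  have hfin : Module.Finite K F := Module.Finite.of_finite
  have hfr : finrank K F = b := by
    have h1 := Module.card_eq_pow_finrank (K := K) (V := F)
    rw [hc] at h1
    exact (Nat.pow_right_injective (Fintype.one_lt_card (α := K)) h1).symm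
  have hcard : Nat.card (F ≃ₐ[K] F) = b := by
    have h1 : Nat.card Gal(F/K) = finrank K F := IsGalois.card_aut_eq_finrank K F
    rw [← hfr, ← h1]
  have h1 : σ' ^ b = 1 := by
    rw [← hcard]
    exact pow_card_eq_one'
  have h2 : ∀ (i : ℕ) (c : F), (σ' ^ i) c = (σ ^ i) c := by
    intro i
    induction i with
    | zero => intro c; rfl
    | succ i ih =>
      intro c
      rw [pow_succ, pow_succ]
      change (σ' ^ i) (σ c) = (σ ^ i) (σ c)
      rw [ih]
  rw [hpow, ← h2, h1]
  rfl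

/-- the dimension of an `F`-subspace -/
theorem dvd_finrank {φ : K →+* F} {b : ℕ} (hφ : ∀ (c : K) (v : V), c • v = φ c • v)
    (hc : Fintype.card F = Fintype.card K ^ b) (W : Submodule K V) (hW : ∀ (c : F), ∀ v ∈ W, c • v ∈ W) :
    b ∣ finrank K W := by
  let W' : Submodule F V := { W with smul_mem' := fun c v hv => hW c v hv }
  have h1 : Nat.card W = Fintype.card K ^ finrank K W := by
    have : Module.Finite K W := Module.Finite.of_finite
    rw [← Nat.card_eq_fintype_card]
    exact Module.natCard_eq_pow_finrank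
  have h2 : Nat.card W' = Fintype.card F ^ finrank F W' := by
    have : Module.Finite F W' := Module.Finite.of_finite
    rw [← Nat.card_eq_fintype_card]
    exact Module.natCard_eq_pow_finrank
  have h3 : Nat.card W = Nat.card W' := rfl
  rw [h1, h2, hc, ← pow_mul] at h3
  exact ⟨_, Nat.pow_right_injective (Fintype.one_lt_card (α := K)) h3⟩

theorem aeval_lin {φ : K →+* F} (hφ : ∀ (c : K) (v : V), c • v = φ c • v) {A : Module.End K V}
    (hA : ∀ (c : F) (v : V), A (c • v) = c • A v) (P : K[X]) (c : F) (v : V) :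
    (aeval A P) (c • v) = c • (aeval A P) v := by
  induction P using Polynomial.induction_on' with
  | add P Q hP hQ => rw [map_add, LinearMap.add_apply, LinearMap.add_apply, hP, hQ, smul_add]
  | monomial k a =>
    have h1 : ∀ v, (A ^ k) (c • v) = c • (A ^ k) v := by
      induction k with
      | zero => intro v; rfl
      | succ k ih =>
        intro v
        rw [pow_succ]
        change (A ^ k) (A (c • v)) = c • (A ^ k) (A v)
        rw [hA, ih]
    rw [aeval_monomial]
    change algebraMap K (Module.End K V) a ((A ^ k) (c • v)) = c • algebraMap K (Module.End K V) a ((A ^ k) v)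
    rw [h1, Module.algebraMap_end_apply, Module.algebraMap_end_apply, hφ, hφ, smul_comm]

end

/-- the `F`-structure -/
def ExtB (H : Subgroup (V ≃ₗ[K] V)) (b : ℕ) : Prop :=
  ∃ (F : Type) (_ : Field F) (_ : Fintype F) (_ : Module F V) (φ : K →+* F),
    (∀ (c : K) (v : V), c • v = φ c • v) ∧ Fintype.card F = Fintype.card K ^ b ∧
      ∀ h ∈ H, ∃ σ : F ≃+* F, ∀ (c : F) (v : V), h (c • v) = σ c • h v

theorem ExtO.exists {H : Subgroup (V ≃ₗ[K] V)} (h : ExtO H) : ∃ b, 2 ≤ b ∧ b ∣ finrank K V ∧ ExtB H b := by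
  obtain ⟨F, i1, i2, i3, φ, b, h1, h2, h3, h4, h5⟩ := h
  exact ⟨b, h2, h4, F, i1, i2, i3, φ, h1, h3, h5⟩

variable {L : Type} [Field L] [Algebra K L] {M : Type} [Field M] [Algebra K M]

theorem two_aeval {g : V ≃ₗ[K] V} {ω : Lˣ} {ν : Mˣ} {e : V ≃ₗ[K] L × M}
    (he : ∀ v, e (g v) = ((ω : L) * (e v).1, (ν : M) * (e v).2)) (P : K[X]) (v : V) :
    e ((aeval (g : Module.End K V) P) v) = (aeval (ω : L) P * (e v).1, aeval (ν : M) P * (e v).2) := by
  induction P using Polynomial.induction_on' with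
  | add P Q hP hQ =>
    rw [map_add, map_add, map_add, LinearMap.add_apply, map_add, hP, hQ, Prod.mk_add_mk, add_mul, add_mul]
  | monomial k a =>
    have h1 : ((g : Module.End K V) ^ k) v = (g ^ k) v := by
      induction k generalizing v with
      | zero => rfl
      | succ k ih =>
        rw [pow_succ, pow_succ]
        change ((g : Module.End K V) ^ k) (g v) = (g ^ k) (g v)
        exact ih _
    rw [aeval_monomial, aeval_monomial, aeval_monomial]
    change e (algebraMap K (Module.End K V) a (((g : Module.End K V) ^ k) v)) = _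
    rw [h1, Module.algebraMap_end_apply, map_smul, twoT_pow he]
    apply Prod.ext
    · change a • (((ω ^ k : Lˣ) : L) * (e v).1) = algebraMap K L a * (ω : L) ^ k * (e v).1
      rw [Algebra.smul_def, Units.val_pow_eq_pow_val, mul_assoc]
    · change a • (((ν ^ k : Mˣ) : M) * (e v).2) = algebraMap K M a * (ν : M) ^ k * (e v).2
      rw [Algebra.smul_def, Units.val_pow_eq_pow_val, mul_assoc]

/-- **The divisibility by `b`.** -/
theorem ext_dvd [Nontrivial V] {H : Subgroup (V ≃ₗ[K] V)} {b : ℕ} (hE : ExtB H b) {g : V ≃ₗ[K] V} (hg : g ∈ H)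
    {ω : Lˣ} {ν : Mˣ} (ht : TwoT L M g ω ν) {P : K[X]} (h1 : aeval ((ω ^ b : Lˣ) : L) P ≠ 0)
    (h2 : aeval ((ν ^ b : Mˣ) : M) P = 0) : b ∣ finrank K M := by
  obtain ⟨F, i1, i2, i3, φ, hφ, hc, hsem⟩ := hE
  obtain ⟨σ, hσ⟩ := hsem g hg
  obtain ⟨e, he⟩ := ht.pow b
  have hlin := lin_pow hφ hc hσ
  let W : Submodule K V := LinearMap.ker (aeval ((g ^ b : V ≃ₗ[K] V) : Module.End K V) P)
  have hW : ∀ v, v ∈ W ↔ (e v).1 = 0 := by
    intro v
    rw [LinearMap.mem_ker, ← LinearEquiv.map_eq_zero_iff e, two_aeval he, h2, zero_mul, Prod.mk_eq_zero]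
    simp only [and_true, mul_eq_zero, h1, false_or]
  have h3 : b ∣ finrank K W := dvd_finrank hφ hc W fun c v hv => by
    rw [LinearMap.mem_ker] at hv ⊢
    rw [aeval_lin hφ (A := ((g ^ b : V ≃ₗ[K] V) : Module.End K V)) hlin, hv, smul_zero]
  have h4 : finrank K W = finrank K M := by
    let f : W ≃ₗ[K] M :=
      { toFun := fun w => (e w).2
        map_add' := fun w w' => by rw [Submodule.coe_add, map_add, Prod.snd_add]
        map_smul' := fun c w => by rw [Submodule.coe_smul, map_smul, Prod.smul_snd]; rfl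
        invFun := fun m => ⟨e.symm (0, m), by rw [hW, LinearEquiv.apply_symm_apply]⟩
        left_inv := fun w => by
          apply Subtype.ext
          apply e.injective
          rw [LinearEquiv.apply_symm_apply]
          exact Prod.ext ((hW w).1 w.2).symm rfl
        right_inv := fun m => by simp }
    exact f.finrank_eq
  rwa [h4] at h3

/-- the version with `ν ^ i = 1` -/
theorem ext_dvd_pow [Nontrivial V] {H : Subgroup (V ≃ₗ[K] V)} {b : ℕ} (hE : ExtB H b) {g : V ≃ₗ[K] V} (hg : g ∈ H)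
    {ω : Lˣ} {ν : Mˣ} (ht : TwoT L M g ω ν) {i : ℕ} (h1 : ω ^ (i * b) ≠ 1) (h2 : ν ^ i = 1) : b ∣ finrank K M := by
  refine ext_dvd hE hg ht (P := X ^ i - 1) ?_ ?_
  · rw [map_sub, map_pow, aeval_X, map_one, sub_ne_zero, ← Units.val_pow_eq_pow_val, ← pow_mul, mul_comm b i]
    intro h
    exact h1 (Units.ext h)
  · rw [map_sub, map_pow, aeval_X, map_one, sub_eq_zero, ← Units.val_pow_eq_pow_val, ← pow_mul, mul_comm b i,
      pow_mul, h2, one_pow, Units.val_one]

end Cfsg.Agent.H184.Cov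
end

-- part: H184/Cov/KillUni
section
set_option linter.all false
open scoped Cfsg.Agent.FastGrp

/-!
# S2499, linear groups: the exceptions of Hering's theorem (helper184)

* `thi_kill` : a group of order 2184 has no elements of order 80 or 242;
* `uni_kill` : in `GL₆(2)` a group with a normal subgroup of order 6048 contains no element of order 31
  and no element of order 5 with four fixed vectors.
-/

set_option autoImplicit false
set_option linter.unusedSectionVars false

namespace Cfsg.Agent.H184.Cov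

open Module

section general

theorem modEq_fix {α : Type*} [Finite α] (f : α → α) {p : ℕ} (hp : p.Prime) (hf : ∀ a, f^[p] a = a) :
    Nat.card {a // f a = a} ≡ Nat.card α [MOD p] := by
  classical
  have : Fact p.Prime := ⟨hp⟩
  have : Fintype α := Fintype.ofFinite α
  let F : Function.End α := f
  have h1 : F ^ p ^ 1 = 1 := by
    rw [pow_one]
    funext a
    have h2 : ∀ (n : ℕ) (a : α), (F ^ n) a = f^[n] a := by
      intro n
      induction n with
      | zero => intro a; rfl
      | succ n ih =>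
        intro a
        rw [pow_succ, Function.iterate_succ_apply, ← ih]
        rfl
    rw [h2, hf]
    rfl
  have h2 := Equiv.Perm.card_fixedPoints_modEq (f := F) (n := 1) h1
  rw [← Nat.card_eq_fintype_card, ← Nat.card_eq_fintype_card] at h2
  exact h2.symm

variable {G : Type*} [Group G] [Finite G]

omit [Finite G] in
theorem conj_pow_eq {z u : G} {i : ℕ} (hi : z * u * z⁻¹ = u ^ i) (k : ℕ) : z ^ k * u * (z ^ k)⁻¹ = u ^ (i ^ k) := by
  induction k with
  | zero => simp
  | succ k ih =>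
    have h1 : z ^ (k + 1) * u * (z ^ (k + 1))⁻¹ = z * (z ^ k * u * (z ^ k)⁻¹) * z⁻¹ := by
      rw [pow_succ']
      group
    rw [h1, ih, ← conj_pow, hi, ← pow_mul, pow_succ']

theorem exists_comm (N : Subgroup G) [N.Normal] (hN : Nat.card N = 6048) (z : G) {r : ℕ} (hp : r.Prime)
    (hzr : z ^ r = 1) (hr : ¬ r ∣ 6048) (hr' : ∀ i : ZMod 7, i ^ r = 1 → i = 1) :
    ∃ t ∈ N, t ≠ 1 ∧ t ^ 7 = 1 ∧ z * t = t * z := by
  have f7 : Fact (Nat.Prime 7) := ⟨by norm_num⟩
  have fr : Fact r.Prime := ⟨hp⟩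
  let φ : Subgroup.zpowers z →* MulAut N := MulAut.conjNormal.comp (Subgroup.zpowers z).subtype
  letI act : MulDistribMulAction (Subgroup.zpowers z) N := MulDistribMulAction.compHom N φ
  have hP : IsPGroup r (Subgroup.zpowers z) := by
    intro x
    obtain ⟨i, hi⟩ := x.2
    refine ⟨1, Subtype.ext ?_⟩
    have hi' : z ^ i = (x : G) := hi
    rw [pow_one, Subgroup.coe_pow, ← hi', ← zpow_natCast, ← zpow_mul, mul_comm, zpow_mul, zpow_natCast, hzr, one_zpow]
    rfl
  have T0 : Sylow 7 N := default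
  have hcard : ¬ r ∣ Nat.card (Sylow 7 N) := by
    intro h
    apply hr
    rw [← hN]
    exact h.trans ((T0.card_dvd_index).trans (Subgroup.index_dvd_card _))
  obtain ⟨T, hT⟩ := hP.nonempty_fixed_point_of_prime_not_dvd_card (Sylow 7 N) hcard
  have hT7 : Nat.card T = 7 := by
    rw [T.card_eq_multiplicity, hN]
    have : Nat.factorization 6048 7 = 1 := by
      rw [show 6048 = 7 * 864 by norm_num, Nat.factorization_mul (by norm_num) (by norm_num), Finsupp.add_apply,
        Nat.Prime.factorization_self (by norm_num), Nat.factorization_eq_zero_of_not_dvd (by norm_num)]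
    rw [this, pow_one]
  have hzT : ∀ t : N, t ∈ T → (MulAut.conjNormal z t) ∈ T := by
    intro t ht
    have h1 := hT ⟨z, Subgroup.mem_zpowers z⟩
    have h2 : (⟨z, Subgroup.mem_zpowers z⟩ : Subgroup.zpowers z) • t ∈
        ((⟨z, Subgroup.mem_zpowers z⟩ : Subgroup.zpowers z) • T : Sylow 7 N) :=
      Subgroup.smul_mem_pointwise_smul _ _ _ ht
    rw [h1] at h2
    exact h2
  obtain ⟨T', hT7', hzT'⟩ : ∃ T' : Subgroup N, Nat.card T' = 7 ∧ ∀ t : N, t ∈ T' → MulAut.conjNormal z t ∈ T' :=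
    ⟨T, hT7, hzT⟩
  clear hT7 hzT hT T
  have hnt : Nontrivial T' := Finite.one_lt_card_iff_nontrivial.1 (by rw [hT7']; norm_num)
  obtain ⟨t, ht⟩ := exists_ne (1 : T')
  have ht7 : orderOf t = 7 := by
    have h1 : orderOf t ∣ 7 := hT7' ▸ orderOf_dvd_natCard t
    rcases (Nat.dvd_prime (by norm_num)).1 h1 with h2 | h2
    · exact absurd (orderOf_eq_one_iff.1 h2) ht
    · exact h2
  have hgen : ∀ s : T', ∃ i : ℕ, t ^ i = s := by
    intro s
    have h1 : s ∈ Subgroup.zpowers t := by
      have h2 : Subgroup.zpowers t = ⊤ := Subgroup.eq_top_of_card_eq _ (by rw [Nat.card_zpowers, ht7, hT7'])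
      rw [h2]
      trivial
    rwa [← mem_powers_iff_mem_zpowers] at h1
  obtain ⟨i, hi⟩ := hgen ⟨MulAut.conjNormal z (t : N), hzT' _ t.2⟩
  have hi' : z * ((t : N) : G) * z⁻¹ = ((t : N) : G) ^ i := by
    have h1 := congrArg (fun s : T' => ((s : N) : G)) hi
    simp only [Subgroup.coe_pow, MulAut.conjNormal_apply] at h1
    exact h1.symm
  set u : G := ((t : N) : G) with hu
  have hu7 : orderOf u = 7 := by
    rw [hu, Subgroup.orderOf_coe, Subgroup.orderOf_coe, ht7]
  have h1 := conj_pow_eq hi' r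
  rw [hzr, one_mul, inv_one, mul_one] at h1
  have h2 : i ^ r ≡ 1 [MOD 7] := by
    rw [← hu7, ← pow_eq_pow_iff_modEq, pow_one]
    exact h1.symm
  have h3 : i ≡ 1 [MOD 7] := by
    rw [← ZMod.natCast_eq_natCast_iff] at h2 ⊢
    push_cast at h2 ⊢
    exact hr' _ h2
  have h4 : u ^ i = u := by
    conv_rhs => rw [← pow_one u]
    rw [pow_eq_pow_iff_modEq, hu7]
    exact h3
  refine ⟨u, (t : N).2, ?_, ?_, ?_⟩
  · intro h
    rw [h, orderOf_one] at hu7
    omega
  · rw [← hu7, pow_orderOf_eq_one]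
  · rw [h4] at hi'
    exact mul_inv_eq_iff_eq_mul.1 hi'

end general

variable {K : Type} [Field K] [Fintype K] {V : Type} [AddCommGroup V] [Module K V] [Finite V]

theorem thi_kill {H : Subgroup (V ≃ₗ[K] V)} (hH : ThiO H) {g : V ≃ₗ[K] V} (hg : g ∈ H) (h : ¬ orderOf g ∣ 2184) :
    False := by
  apply h
  rw [← hH.2.2, ← Subgroup.orderOf_mk g hg]
  exact orderOf_dvd_natCard _

theorem iter_pow (g : V ≃ₗ[K] V) (n : ℕ) (v : V) : (⇑g)^[n] v = (g ^ n) v := by
  induction n generalizing v with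
  | zero => rfl
  | succ n ih =>
    rw [Function.iterate_succ_apply, ih, pow_succ]
    rfl

theorem uni_kill {H : Subgroup (V ≃ₗ[K] V)} (hU : UniO H) {z : V ≃ₗ[K] V} (hz : z ∈ H) {r : ℕ} (hzr : z ^ r = 1)
    (hcase : (r = 31 ∧ Nat.card {v // z v = v} = 2) ∨ (r = 5 ∧ Nat.card {v // z v = v} = 4)) : False := by
  obtain ⟨hn, hq, N, hNH, hnor, hN⟩ := hU
  have hfinG : Finite (V ≃ₗ[K] V) := DFunLike.finite _
  have hV : Nat.card V = 64 := by
    rw [Module.natCard_eq_pow_finrank (K := K), hn, Nat.card_eq_fintype_card, hq]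
    norm_num
  -- the element of order 7
  obtain ⟨t, ht1, ht7, hzt⟩ : ∃ t : V ≃ₗ[K] V, t ≠ 1 ∧ t ^ 7 = 1 ∧ z * t = t * z := by
    have hnorm : (N.subgroupOf H).Normal := by
      constructor
      intro x hx h
      rw [Subgroup.mem_subgroupOf] at hx ⊢
      exact hnor h h.2 x hx
    have hcard : Nat.card (N.subgroupOf H) = 6048 := by
      rw [← hN]
      exact Nat.card_congr (Subgroup.subgroupOfEquivOfLe hNH).toEquiv
    have hzr' : (⟨z, hz⟩ : H) ^ r = 1 := Subtype.ext hzr
    have h1 : ∃ t ∈ N.subgroupOf H, t ≠ 1 ∧ t ^ 7 = 1 ∧ (⟨z, hz⟩ : H) * t = t * ⟨z, hz⟩ := by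
      rcases hcase with ⟨rfl, -⟩ | ⟨rfl, -⟩
      · exact exists_comm _ hcard _ (by norm_num) hzr' (by norm_num) (by decide)
      · exact exists_comm _ hcard _ (by norm_num) hzr' (by norm_num) (by decide)
    obtain ⟨t, -, h1, h2, h3⟩ := h1
    exact ⟨t, fun h => h1 (Subtype.ext h), by rw [← Subgroup.coe_pow, h2]; rfl, congrArg Subtype.val h3⟩
  have hcomm : ∀ v, z (t v) = t (z v) := fun v => congrArg (fun f : V ≃ₗ[K] V => f v) hzt
  -- the three congruences
  have hrp : r.Prime := by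
    rcases hcase with ⟨rfl, -⟩ | ⟨rfl, -⟩ <;> norm_num
  have c1 : Nat.card {v // t v = v} ≡ Nat.card V [MOD 7] :=
    modEq_fix (⇑t) (by norm_num) fun v => by rw [iter_pow, ht7]; rfl
  have c2 : Nat.card {w : {v // t v = v} // z w = w} ≡ Nat.card {v // t v = v} [MOD r] := by
    let f : {v // t v = v} → {v // t v = v} := fun w => ⟨z w, by rw [← hcomm, w.2]⟩
    have h1 := modEq_fix f hrp (fun w => by
      have h2 : ∀ (n : ℕ) (w : {v // t v = v}), ((f^[n] w : {v // t v = v}) : V) = (z ^ n) w := by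
        intro n
        induction n with
        | zero => intro w; rfl
        | succ n ih =>
          intro w
          rw [Function.iterate_succ_apply, ih, pow_succ]
          rfl
      apply Subtype.ext
      rw [h2, hzr]
      rfl)
    rwa [show Nat.card {w // f w = w} = _ from Nat.card_congr (Equiv.subtypeEquivRight fun w => Subtype.ext_iff)] at h1
  have c3 : Nat.card {w : {v // z v = v} // t w = w} ≡ Nat.card {v // z v = v} [MOD 7] := by
    let f : {v // z v = v} → {v // z v = v} := fun w => ⟨t w, by rw [hcomm, w.2]⟩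
    have h1 := modEq_fix f (p := 7) (by norm_num) (fun w => by
      have h2 : ∀ (n : ℕ) (w : {v // z v = v}), ((f^[n] w : {v // z v = v}) : V) = (t ^ n) w := by
        intro n
        induction n with
        | zero => intro w; rfl
        | succ n ih =>
          intro w
          rw [Function.iterate_succ_apply, ih, pow_succ]
          rfl
      apply Subtype.ext
      rw [h2, ht7]
      rfl)
    rwa [show Nat.card {w // f w = w} = _ from Nat.card_congr (Equiv.subtypeEquivRight fun w => Subtype.ext_iff)] at h1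
  have e1 : Nat.card {w : {v // z v = v} // t w = w} = Nat.card {w : {v // t v = v} // z w = w} :=
    Nat.card_congr
      { toFun := fun w => ⟨⟨w.1.1, w.2⟩, w.1.2⟩
        invFun := fun w => ⟨⟨w.1.1, w.2⟩, w.1.2⟩
        left_inv := fun w => rfl
        right_inv := fun w => rfl }
  have h3 : Nat.card {w : {v // z v = v} // t w = w} ≤ Nat.card {v // z v = v} :=
    Nat.card_le_card_of_injective _ Subtype.val_injective
  have h4 : Nat.card {v // t v = v} ∣ 64 := by
    let W : AddSubgroup V :=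
      { carrier := {v | t v = v}
        add_mem' := fun {a b} ha hb => by
          rw [Set.mem_ofPred_eq] at ha hb ⊢
          rw [map_add, ha, hb]
        zero_mem' := map_zero t
        neg_mem' := fun {a} ha => by
          rw [Set.mem_ofPred_eq] at ha ⊢
          rw [map_neg, ha] }
    rw [← hV]
    exact W.card_addSubgroup_dvd_card
  obtain ⟨w, hw⟩ : ∃ w, w = Nat.card {v // t v = v} := ⟨_, rfl⟩
  have h5 : w = 64 := by
    rw [← hw] at c1 c2 h4
    rw [e1] at c3 h3
    rw [hV] at c1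
    have h6 : w ≤ 64 := Nat.le_of_dvd (by norm_num) h4
    unfold Nat.ModEq at c1 c2 c3
    rcases hcase with ⟨rfl, hc⟩ | ⟨rfl, hc⟩ <;> rw [hc] at c3 h3
    · have h7 : Nat.card {w : {v // t v = v} // z w = w} = 2 := by omega
      rw [h7] at c2
      interval_cases w <;> omega
    · have h7 : Nat.card {w : {v // t v = v} // z w = w} = 4 := by omega
      rw [h7] at c2
      interval_cases w <;> omega
  apply ht1
  ext v
  have h6 : Function.Bijective (Subtype.val : {v // t v = v} → V) := by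
    rw [Nat.bijective_iff_injective_and_card]
    exact ⟨Subtype.val_injective, by rw [← hw, h5, hV]⟩
  obtain ⟨w', rfl⟩ := h6.2 v
  exact w'.2

end Cfsg.Agent.H184.Cov
end

-- part: H184/Cov/KillSymp
section
prune_inst 0x55000001740020000000006120000503000012000000000e8000482010080a28d402001002010121a0611000800004815101804220000000a0000000007040100000000a108000002001e000000000000000000000000000000000000000000200000000
set_option linter.all false
open scoped Cfsg.Agent.FastGrp

/-!
# S2499, linear groups: symplectic forms (helper184)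

* `symp_two` : a group of similarities of a symplectic form contains no element of type `(n - 1, 1)`;
* `symp_one` : a group of similarities of a symplectic form does not contain the `(q - 1)`-st power of a Singer cycle.
-/

set_option autoImplicit false
set_option linter.unusedSectionVars false

namespace Cfsg.Agent.H184.Cov

open Module Polynomial

variable {K : Type} [Field K] [Fintype K] {V : Type} [AddCommGroup V] [Module K V] [Finite V]
  {L : Type} [Field L] [Algebra K L] [Finite L]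

theorem skew {f : V →ₗ[K] V →ₗ[K] K} (h : ∀ v, f v v = 0) (u v : V) : f u v = - f v u := by
  have h1 := h (u + v)
  simp only [map_add, LinearMap.add_apply, h] at h1
  linear_combination h1

theorem symp_two {H : Subgroup (V ≃ₗ[K] V)} (hS : SympO H) {g : V ≃ₗ[K] V} (hg : g ∈ H) {ω : Lˣ} (hω : IsGen ω)
    {ν : Kˣ} (ht : TwoT L K g ω ν) (h2 : 2 ≤ finrank K L) : False := by
  obtain ⟨f, ha, hn, hs⟩ := hS
  obtain ⟨μ, hμ⟩ := hs g hg
  obtain ⟨e, he⟩ := ht
  have hfin : Module.Finite K L := Module.Finite.of_finite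
  set u : V := e.symm (0, 1) with hu
  have hgu : g u = (ν : K) • u := by
    apply e.injective
    rw [he, map_smul, hu, LinearEquiv.apply_symm_apply]
    apply Prod.ext
    · change (ω : L) * 0 = (ν : K) • (0 : L)
      rw [mul_zero, smul_zero]
    · rfl
  let w : L →ₗ[K] V := (e.symm : L × K →ₗ[K] V) ∘ₗ LinearMap.inl K L K
  have hw : ∀ a : L, w a = e.symm (a, 0) := fun a => rfl
  have hgw : ∀ a : L, g (w a) = w ((ω : L) * a) := by
    intro a
    apply e.injective
    rw [he, hw, hw, LinearEquiv.apply_symm_apply, LinearEquiv.apply_symm_apply]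
    simp
  let ψ : L →ₗ[K] K := (f.flip u) ∘ₗ w
  have hψ : ∀ a, ψ a = f (w a) u := fun a => rfl
  have hψω : ∀ a, ψ ((ω : L) * a) = μ * (ν : K)⁻¹ * ψ a := by
    intro a
    have h1 := hμ (w a) u
    rw [hgw, hgu, map_smul, smul_eq_mul, ← hψ, ← hψ] at h1
    rw [mul_comm μ, mul_assoc, ← h1, inv_mul_cancel_left₀ ν.ne_zero]
  have hpow : ∀ (i : ℕ) (a : L), ψ a = 0 → ψ (((ω ^ i : Lˣ) : L) * a) = 0 := by
    intro i
    induction i with
    | zero => intro a h; simpa only [_root_.pow_zero, _root_.Units.val_one, _root_.one_mul] using h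
    | succ i ih =>
      intro a h
      rw [pow_succ, Units.val_mul, mul_assoc]
      apply ih
      rw [hψω, h, mul_zero]
  obtain ⟨a0, ha0, ha0'⟩ : ∃ a : L, a ≠ 0 ∧ ψ a = 0 := by
    have h1 : finrank K K < finrank K L := by rw [finrank_self]; omega
    have h3 := LinearMap.ker_ne_bot_of_finrank_lt (f := ψ) h1
    obtain ⟨a, h4, h5⟩ := (Submodule.ne_bot_iff _).1 h3
    exact ⟨a, h5, h4⟩
  have hψ0 : ∀ a, ψ a = 0 := by
    intro a
    by_cases ha : a = 0
    · rw [ha, map_zero]
    · obtain ⟨i, hi⟩ := hω.exists_pow (Units.mk0 a ha / Units.mk0 a0 ha0)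
      have h1 := hpow i a0 ha0'
      rw [hi, Units.val_div_eq_div_val, Units.val_mk0, Units.val_mk0, div_mul_cancel₀ _ ha0] at h1
      exact h1
  have h0 : u = 0 := by
    apply hn
    intro v
    rw [skew ha]
    obtain ⟨a, c, hv⟩ : ∃ (a : L) (c : K), v = w a + c • u := by
      refine ⟨(e v).1, (e v).2, ?_⟩
      apply e.injective
      rw [map_add, map_smul, hw, hu, LinearEquiv.apply_symm_apply, LinearEquiv.apply_symm_apply]
      apply Prod.ext
      · change (e v).1 = (e v).1 + (e v).2 • (0 : L)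
        rw [smul_zero, add_zero]
      · change (e v).2 = 0 + (e v).2 • (1 : K)
        rw [zero_add, smul_eq_mul, mul_one]
    rw [hv, map_add, map_smul, LinearMap.add_apply, LinearMap.smul_apply, ← hψ, hψ0, ha, smul_zero, add_zero, neg_zero]
  have h1 : e u = 0 := by rw [h0, map_zero]
  rw [hu, LinearEquiv.apply_symm_apply] at h1
  exact one_ne_zero (congrArg Prod.snd h1 : (1 : K) = 0)

theorem num_symp {q n i : ℕ} (hq : 2 ≤ q) (hn : 3 ≤ n) (hi : i < n) : ¬ (q ^ n - 1) ∣ (q - 1) * (q - 1) * (q ^ i + 1) := by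
  intro hd
  obtain ⟨m, rfl⟩ : ∃ m, q = m + 1 := ⟨q - 1, by omega⟩
  have hm : 1 ≤ m := by omega
  rw [Nat.add_sub_cancel] at hd
  have hY : m + 1 ≤ (m + 1) ^ (n - 2) := Nat.le_self_pow (by omega) _
  have hn2 : (m + 1) ^ n = (m + 1) ^ (n - 2) * ((m + 1) * (m + 1)) := by
    rw [← pow_two, ← pow_add]
    congr 1
    omega
  have hpos : 0 < (m + 1) ^ n := by positivity
  rcases Nat.lt_or_ge i (n - 1) with h1 | h1
  · have h2 := Nat.le_of_dvd (by positivity) hd
    have h3 : (m + 1) ^ i ≤ (m + 1) ^ (n - 2) := Nat.pow_le_pow_right (by omega) (by omega)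
    set Y := (m + 1) ^ (n - 2) with hYd
    set Z := (m + 1) ^ i with hZd
    rw [hn2] at h2
    have h4 : m * m * (Z + 1) ≤ m * m * (Y + 1) := Nat.mul_le_mul_left _ (by omega)
    have h5 : Y * ((m + 1) * (m + 1)) ≤ m * m * (Y + 1) + 1 := by omega
    nlinarith only [hq, hY, h5]
  · obtain rfl : i = n - 1 := by omega
    have h2 : ((m + 1) ^ n - 1) ∣ m * m * (m + 2) := by
      have h3 : (m + 1) ^ n - 1 ∣ (m + 1) * (m * m * ((m + 1) ^ (n - 1) + 1)) := Dvd.dvd.mul_left hd _
      have h4 : (m + 1) * (m + 1) ^ (n - 1) = (m + 1) ^ n := by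
        rw [← pow_succ']
        congr 1
        omega
      have h5 : (m + 1) * (m * m * ((m + 1) ^ (n - 1) + 1)) = m * m * ((m + 1) ^ n - 1) + m * m * (m + 2) := by
        have h6 : (m + 1) * (m * m * ((m + 1) ^ (n - 1) + 1)) = m * m * ((m + 1) * (m + 1) ^ (n - 1) + (m + 1)) := by
          ring
        rw [h6, h4, ← mul_add]
        congr 1
        omega
      rw [h5] at h3
      exact (Nat.dvd_add_right (Dvd.intro_left _ rfl)).1 h3
    have h3 := Nat.le_of_dvd (by positivity) h2
    have h4 : (m + 1) ^ 3 ≤ (m + 1) ^ n := Nat.pow_le_pow_right (by omega) hn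
    have h5 : (m + 1) ^ 3 = m * m * (m + 2) + m * m + 3 * m + 1 := by ring
    omega

theorem pow_mod {n : ℕ} (hn : Nat.card L = Nat.card K ^ n) (x : L) (i : ℕ) :
    x ^ (Nat.card K ^ i) = x ^ (Nat.card K ^ (i % n)) := by
  have h1 : ∀ (k : ℕ) (y : L), y ^ (Nat.card K ^ (n * k)) = y := by
    intro k
    induction k with
    | zero => intro y; simp
    | succ k ih =>
      intro y
      have h2 : y ^ (Nat.card K ^ n) = y := by
        have := Fintype.ofFinite L
        rw [← hn, Nat.card_eq_fintype_card, FiniteField.pow_card]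
      rw [mul_add, mul_one, pow_add, pow_mul, ih, h2]
  conv_lhs => rw [← Nat.mod_add_div i n, pow_add, pow_mul, h1]

theorem symp_one {H : Subgroup (V ≃ₗ[K] V)} (hS : SympO H) {g : V ≃ₗ[K] V} (hg : g ∈ H) {γ : Lˣ} (hγ : IsGen γ)
    (ht : OneT L g (γ ^ (Nat.card K - 1))) (h3 : 3 ≤ finrank K L) : False := by
  obtain ⟨f, ha, hn, hs⟩ := hS
  obtain ⟨μ, hμ⟩ := hs g hg
  obtain ⟨e, he⟩ := ht
  have hfin : Module.Finite K L := Module.Finite.of_finite
  obtain ⟨q, hq⟩ : ∃ q, q = Nat.card K := ⟨_, rfl⟩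
  rw [← hq] at he
  -- `f ≠ 0`
  have hne : ∃ u v, f u v ≠ 0 := by
    by_contra hcon
    push Not at hcon
    have h1 : e.symm 1 = 0 := hn _ fun v => hcon _ v
    rw [LinearEquiv.map_eq_zero_iff] at h1
    exact one_ne_zero h1
  have hμ0 : μ ≠ 0 := by
    rintro rfl
    obtain ⟨u, v, huv⟩ := hne
    obtain ⟨u', rfl⟩ := g.surjective u
    obtain ⟨v', rfl⟩ := g.surjective v
    rw [hμ, zero_mul] at huv
    exact huv rfl
  -- the form on `L`
  let F : L →ₗ[K] L →ₗ[K] K := f.compl₁₂ (e.symm : L →ₗ[K] V) (e.symm : L →ₗ[K] V)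
  have hF : ∀ a b, F a b = f (e.symm a) (e.symm b) := fun a b => rfl
  have hg' : ∀ a, g (e.symm a) = e.symm (((γ ^ (q - 1) : Lˣ) : L) * a) := by
    intro a
    apply e.injective
    rw [he, LinearEquiv.apply_symm_apply, LinearEquiv.apply_symm_apply]
  have hF1 : ∀ a b, F (((γ ^ (q - 1) : Lˣ) : L) * a) (((γ ^ (q - 1) : Lˣ) : L) * b) = μ * F a b := by
    intro a b
    rw [hF, hF, ← hg', ← hg', hμ]
  obtain ⟨τ, hτ⟩ : ∃ τ : Lˣ, τ = (γ ^ (q - 1)) ^ (q - 1) := ⟨_, rfl⟩
  have hF2 : ∀ (i : ℕ) (a b : L), F ((((γ ^ (q - 1)) ^ i : Lˣ) : L) * a) ((((γ ^ (q - 1)) ^ i : Lˣ) : L) * b) =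
      μ ^ i * F a b := by
    intro i
    induction i with
    | zero => intro a b; simp
    | succ i ih =>
      intro a b
      rw [pow_succ (γ ^ (q - 1)), Units.val_mul, mul_assoc, mul_assoc, ih, hF1, pow_succ, mul_assoc]
  have hF3 : ∀ a b, F ((τ : L) * a) ((τ : L) * b) = F a b := by
    intro a b
    rw [hτ, hF2]
    have h1 : μ ^ (q - 1) = 1 := by
      rw [hq, Nat.card_eq_fintype_card]
      exact FiniteField.pow_card_sub_one_eq_one μ hμ0
    rw [h1, one_mul]
  have hF4 : ∀ a b, F ((τ : L) * a) b = F a (((τ⁻¹ : Lˣ) : L) * b) := by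
    intro a b
    rw [← hF3 a (((τ⁻¹ : Lˣ) : L) * b), ← mul_assoc, Units.mul_inv, one_mul]
  have hF5 : ∀ (P : K[X]) (a b : L), F (aeval (τ : L) P * a) b = F a (aeval ((τ⁻¹ : Lˣ) : L) P * b) := by
    intro P
    induction P using Polynomial.induction_on' with
    | add P Q hP hQ =>
      intro a b
      rw [map_add, map_add, add_mul, add_mul, map_add, LinearMap.add_apply, hP, hQ, map_add]
    | monomial k c =>
      have h1 : ∀ (k : ℕ) (a b : L), F ((τ : L) ^ k * a) b = F a (((τ⁻¹ : Lˣ) : L) ^ k * b) := by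
        intro k
        induction k with
        | zero => intro a b; simp
        | succ k ih =>
          intro a b
          rw [pow_succ, mul_assoc, ih, hF4, pow_succ' ((τ⁻¹ : Lˣ) : L), mul_assoc]
      intro a b
      rw [aeval_monomial, aeval_monomial, mul_assoc, mul_assoc, ← Algebra.smul_def, ← Algebra.smul_def, map_smul,
        LinearMap.smul_apply, h1, map_smul]
  have hint : IsIntegral K (τ : L) := Algebra.IsIntegral.isIntegral _
  have hP0 : aeval ((τ⁻¹ : Lˣ) : L) (minpoly K (τ : L)) = 0 := by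
    by_contra hcon
    obtain ⟨u, v, huv⟩ := hne
    apply huv
    have h1 := hF5 (minpoly K (τ : L)) (e u) ((aeval ((τ⁻¹ : Lˣ) : L) (minpoly K (τ : L)))⁻¹ * e v)
    rw [minpoly.aeval, zero_mul, map_zero, LinearMap.zero_apply, mul_inv_cancel_left₀ hcon, hF,
      LinearEquiv.symm_apply_apply, LinearEquiv.symm_apply_apply] at h1
    exact h1.symm
  have hconj : IsConjRoot K (τ : L) ((τ⁻¹ : Lˣ) : L) :=
    minpoly.eq_of_irreducible_of_monic (minpoly.irreducible hint) hP0 (minpoly.monic hint)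
  obtain ⟨σ, hσ⟩ := (isConjRoot_iff_exists_algEquiv (K := K)).1 hconj
  obtain ⟨p, hp⟩ := CharP.exists K
  have hpp : Fact p.Prime := ⟨CharP.char_is_prime K p⟩
  obtain ⟨i, hi⟩ := FiniteField.exists_forall_apply_eq_pow K p L σ
  have hcL : Nat.card L = Nat.card K ^ finrank K L := card_field
  have h1 : ((τ⁻¹ : Lˣ) : L) ^ (Nat.card K ^ (i % finrank K L)) = τ := by
    rw [← pow_mod hcL, ← hi, hσ]
  have h2 : τ ^ (q ^ (i % finrank K L) + 1) = 1 := by
    apply Units.ext
    have h4 : (τ⁻¹) ^ (q ^ (i % finrank K L)) = τ := by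
      apply Units.ext
      rw [Units.val_pow_eq_pow_val, hq]
      exact h1
    have h5 : τ ^ (q ^ (i % finrank K L)) = τ⁻¹ := by
      rw [inv_pow, inv_eq_iff_eq_inv] at h4
      exact h4
    rw [pow_succ, h5, inv_mul_cancel]
  rw [hτ, ← pow_mul, ← pow_mul] at h2
  have h4 := orderOf_dvd_of_pow_eq_one h2
  rw [hγ.orderOf, card_units (K := K), ← hq, ← mul_assoc] at h4
  refine num_symp (q := q) ?_ h3 (Nat.mod_lt _ (by omega)) h4
  rw [hq]
  exact one_lt_q

end Cfsg.Agent.H184.Cov
end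

-- part: H184/Cov/KillGam
section
prune_inst 0x5506044174000000018008631200014340005b000400000e96004420100c362cd4301410c002512120682010000000815101814220000000a0000000005050100000200b0180c00200016000004000000000000000000000000000000000000200000000
set_option linter.all false
open scoped Cfsg.Agent.FastGrp

/-!
# S2499, linear groups: semilinear groups of dimension one (helper184)

`gam_fix` : an element `h ≠ 1` of `ΓL₁(q ^ n)` with `q ^ j` fixed points has order `t` dividing ... with `n = j t`.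
-/

set_option autoImplicit false
set_option linter.unusedSectionVars false

namespace Cfsg.Agent.H184.Cov

open Module

variable {K : Type} [Field K] [Fintype K] {V : Type} [AddCommGroup V] [Module K V] [Finite V]

/-- the order of a field automorphism and the fixed field -/
theorem card_fixed {F : Type} [Field F] [Finite F] (σ : F ≃+* F) :
    Nat.card F = Nat.card {x : F // σ x = x} ^ orderOf σ := by
  classical
  let σ' : RingAut F := σ
  have hfin : Finite (RingAut F) := Finite.of_injective (fun s : RingAut F => (s : F → F)) DFunLike.coe_injective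
  let G : Subgroup (RingAut F) := Subgroup.zpowers σ'
  have hG : Fintype G := Fintype.ofFinite _
  have h1 : Module.finrank (FixedPoints.subfield G F) F = Fintype.card G := FixedPoints.finrank_eq_card G F
  have h2 : Fintype.card G = orderOf σ := by
    rw [← Nat.card_eq_fintype_card]
    exact Nat.card_zpowers σ'
  have hfin' : Module.Finite (FixedPoints.subfield G F) F := Module.Finite.of_finite
  have h3 : Nat.card F = Nat.card (FixedPoints.subfield G F) ^ Module.finrank (FixedPoints.subfield G F) F :=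
    Module.natCard_eq_pow_finrank
  rw [h3, h1, h2]
  congr 1
  refine Nat.card_congr (Equiv.subtypeEquivRight fun x => ?_)
  constructor
  · intro h
    exact h ⟨σ', Subgroup.mem_zpowers _⟩
  · intro h g
    have h4 : ∀ g ∈ G, g • x = x := by
      intro g hg
      have h5 : G ≤ MulAction.stabilizer (RingAut F) x := by
        rw [Subgroup.zpowers_le]
        exact h
      exact h5 hg
    exact h4 g g.2

theorem gam_fix {H : Subgroup (V ≃ₗ[K] V)} (hG : GamO H) {h : V ≃ₗ[K] V} (hh : h ∈ H) {v0 : V} (hv : v0 ≠ 0)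
    (hf : h v0 = v0) {j : ℕ} (hj : Nat.card {v // h v = v} = Nat.card K ^ j) :
    ∃ t, finrank K V = j * t ∧ h ^ t = 1 := by
  obtain ⟨F, i1, i2, e, hc, hs⟩ := hG
  obtain ⟨c, σ, hσ⟩ := hs h hh
  have he0 : e v0 ≠ 0 := by rwa [Ne, AddEquivClass.map_eq_zero_iff]
  have h0 : e v0 = c * σ (e v0) := by rw [← hσ, hf]
  have hσ0 : σ (e v0) ≠ 0 := by rwa [Ne, map_eq_zero_iff _ σ.injective]
  have hc0 : c = e v0 / σ (e v0) := by
    rw [eq_div_iff hσ0]
    exact h0.symm
  -- the normalized coordinate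
  have key : ∀ v, e (h v) / e v0 = σ (e v / e v0) := by
    intro v
    rw [hσ, hc0, map_div₀]
    field_simp
  have hpow : ∀ (i : ℕ) (v : V), e ((h ^ i) v) / e v0 = (σ ^ i) (e v / e v0) := by
    intro i
    induction i with
    | zero => intro v; rfl
    | succ i ih =>
      intro v
      rw [pow_succ, pow_succ]
      change e ((h ^ i) (h v)) / e v0 = (σ ^ i) (σ (e v / e v0))
      rw [ih, key]
  refine ⟨orderOf σ, ?_, ?_⟩
  · have h1 : Nat.card {v // h v = v} = Nat.card {x : F // σ x = x} := by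
      refine Nat.card_congr (Equiv.subtypeEquiv (e.toEquiv.trans (Equiv.mulRight₀ (e v0)⁻¹ (inv_ne_zero he0))) ?_)
      intro v
      change h v = v ↔ σ (e v * (e v0)⁻¹) = e v * (e v0)⁻¹
      rw [← div_eq_mul_inv, ← key, div_left_inj' he0, e.injective.eq_iff]
    have h2 := card_fixed σ
    rw [← h1, hj, Nat.card_eq_fintype_card (α := F), hc, Nat.card_eq_fintype_card, ← pow_mul] at h2
    exact Nat.pow_right_injective (Fintype.one_lt_card (α := K)) h2
  · apply LinearEquiv.ext
    intro v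
    apply e.injective
    have h1 := hpow (orderOf σ) v
    rw [pow_orderOf_eq_one] at h1
    exact (div_left_inj' he0).1 h1

variable {L : Type} [Field L] [Algebra K L] [Finite L] {M : Type} [Field M] [Algebra K M] [Finite M]

/-- the fixed points of `(ω, 1)` -/
theorem card_fix_two {h : V ≃ₗ[K] V} {ω : Lˣ} (ht : TwoT L M h ω 1) (hω : ω ≠ 1) :
    Nat.card {v // h v = v} = Nat.card K ^ finrank K M ∧ ∃ v0, v0 ≠ 0 ∧ h v0 = v0 := by
  obtain ⟨e, he⟩ := ht
  have hfix : ∀ v, h v = v ↔ (e v).1 = 0 := by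
    intro v
    rw [← e.injective.eq_iff, he, Units.val_one, one_mul, Prod.ext_iff]
    simp only [and_true]
    constructor
    · intro h1
      by_contra h0
      apply hω
      apply Units.ext
      rw [Units.val_one]
      exact mul_right_cancel₀ h0 (by rw [h1, one_mul])
    · intro h1
      rw [h1, mul_zero]
  refine ⟨?_, e.symm (0, 1), ?_, ?_⟩
  · rw [← card_field]
    exact Nat.card_congr
      { toFun := fun v => (e v.1).2
        invFun := fun m => ⟨e.symm (0, m), by rw [hfix, LinearEquiv.apply_symm_apply]⟩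
        left_inv := fun v => by
          apply Subtype.ext
          apply e.injective
          rw [LinearEquiv.apply_symm_apply]
          exact Prod.ext ((hfix _).1 v.2).symm rfl
        right_inv := fun m => by simp }
  · rw [Ne, LinearEquiv.map_eq_zero_iff]
    intro h1
    exact one_ne_zero (congrArg Prod.snd h1)
  · rw [hfix, LinearEquiv.apply_symm_apply]

theorem gam_two {H : Subgroup (V ≃ₗ[K] V)} (hG : GamO H) {h : V ≃ₗ[K] V} (hh : h ∈ H) {ω : Lˣ}
    (ht : TwoT L M h ω 1) (hω : ω ≠ 1) : ∃ t, finrank K V = finrank K M * t ∧ ω ^ t = 1 := by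
  obtain ⟨h1, v0, hv, hf⟩ := card_fix_two ht hω
  obtain ⟨t, h2, h3⟩ := gam_fix hG hh hv hf h1
  exact ⟨t, h2, (ht.pow_eq_one_iff.1 h3).1⟩

/-- `q ^ (n - 1) - 1` does not divide `(q - 1) n` -/
theorem num_gam_one {q k t : ℕ} (hq : 2 ≤ q) (hk : 3 ≤ k) (ht0 : 0 < t) (ht : t ≤ k + 1) :
    ¬ (q ^ k - 1) ∣ (q - 1) * t := by
  intro hd
  have h1 := Nat.le_of_dvd (by have : 0 < q - 1 := by omega
                               positivity) hd
  obtain ⟨m, rfl⟩ : ∃ m, q = m + 1 := ⟨q - 1, by omega⟩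
  rw [Nat.add_sub_cancel] at h1
  have h2 : m * t ≤ m * (k + 1) := Nat.mul_le_mul_left _ ht
  have h3 : ∀ k, 3 ≤ k → m * (k + 1) + 1 < (m + 1) ^ k := by
    intro k hk
    induction k, hk using Nat.le_induction with
    | base => nlinarith only [mul_pos (show 0 < m by omega) (show 0 < m by omega)]
    | succ k hk ih =>
      rw [pow_succ]
      have h5 : (m * (k + 1) + 1 + 1) * 2 ≤ (m + 1) ^ k * (m + 1) := Nat.mul_le_mul ih (by omega)
      have h6 : m * 1 ≤ m * (k + 1) := Nat.mul_le_mul_left _ (by omega)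
      have h7 : m * (k + 1 + 1) = m * (k + 1) + m := by ring
      omega
  have h4 := h3 k hk
  omega

/-- `q ^ k - 1` does not divide `(q² - 1) t`, `t = k / 2 + 1` -/
theorem num_gam_two {q k t : ℕ} (hq : 2 ≤ q) (hk : 3 ≤ k) (ht : k + 2 = 2 * t) : ¬ (q ^ k - 1) ∣ (q ^ 2 - 1) * t := by
  intro hd
  have hq2 : 4 ≤ q ^ 2 := by nlinarith only [hq]
  have h1 := Nat.le_of_dvd (Nat.mul_pos (by omega) (by omega)) hd
  obtain ⟨s, rfl⟩ : ∃ s, k = 2 * s := ⟨t - 1, by omega⟩
  obtain rfl : t = s + 1 := by omega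
  rw [pow_mul] at h1
  obtain ⟨m, hm⟩ : ∃ m, q ^ 2 = m + 1 := ⟨q ^ 2 - 1, by omega⟩
  have hm3 : 3 ≤ m := by omega
  rw [hm, Nat.add_sub_cancel] at h1
  have h3 : ∀ s, 2 ≤ s → m * (s + 1) + 1 < (m + 1) ^ s := by
    intro s hs
    induction s, hs using Nat.le_induction with
    | base => nlinarith only [hq2, hm]
    | succ k hk ih =>
      rw [pow_succ]
      have h5 : (m * (k + 1) + 1 + 1) * 2 ≤ (m + 1) ^ k * (m + 1) := Nat.mul_le_mul ih (by omega)
      have h6 : m * 1 ≤ m * (k + 1) := Nat.mul_le_mul_left _ (by omega)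
      have h7 : m * (k + 1 + 1) = m * (k + 1) + m := by ring
      omega
  have h4 := h3 s (by omega)
  omega

end Cfsg.Agent.H184.Cov
end

-- part: H184/Cov/KSide
section
prune_inst 0x4004000150002000000000262200000100005220040000060200482010000a28d402001000000121a0001010000000000100010000000000a000000000001000000000031000000020018000000000000000000000000000000000000000000000000000
set_option linter.all false
open scoped Cfsg.Agent.FastGrp

-- part: H184/Cov/Count
section
/-!
# S2499, linear groups: counting points (helper184)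

* `card_dvd_closed` : a subset closed under the multiplication with a subgroup;
* `count_pts` : a set of vectors `(a, c)` of `L × K` with `a ≠ 0 ≠ c`, invariant under `Kˣ` and `(ω, ν)`, `ω` a
  generator of `Lˣ`, has `i (|L| - 1)` elements;
* `card_ker` : the kernel of a linear form;
* `exists_dual` : coordinates on the dual space.
-/

set_option autoImplicit false
set_option linter.unusedSectionVars false

namespace Cfsg.Agent.H184.Cov

open Module

theorem card_dvd_closed {G : Type*} [Group G] [Finite G] (D : Subgroup G) (A : Set G)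
    (h : ∀ d ∈ D, ∀ a ∈ A, d * a ∈ A) : Nat.card D ∣ Nat.card A := by
  letI act : MulAction D A :=
    { smul := fun d a => ⟨d * a, h d d.2 a a.2⟩
      one_smul := fun a => Subtype.ext (one_mul _)
      mul_smul := fun d d' a => Subtype.ext (mul_assoc _ _ _) }
  refine Cfsg.Agent.H23.FreeAct.card_dvd_of_free fun d a hd => ?_
  have h1 : (d : G) * a = a := congrArg Subtype.val hd
  exact Subtype.ext (mul_eq_right.1 h1)

variable {K : Type} [Field K] [Finite K] {L : Type} [Field L] [Algebra K L] [Finite L]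
  {W : Type} [AddCommGroup W] [Module K W]

theorem pow_mem_of {y : W ≃ₗ[K] W} {A : Set W} (h : ∀ w ∈ A, y w ∈ A) (i : ℕ) : ∀ w ∈ A, (y ^ i) w ∈ A := by
  induction i with
  | zero => intro w hw; exact hw
  | succ i ih =>
    intro w hw
    rw [pow_succ]
    exact ih _ (h w hw)

theorem orderOf_pow_base {ω : Lˣ} (hω : IsGen ω) :
    (Nat.card K - 1) * orderOf (ω ^ (Nat.card K - 1)) = Nat.card K ^ finrank K L - 1 := by
  rw [orderOf_pow, hω.orderOf, card_units (K := K)]
  have hd : Nat.card K - 1 ∣ Nat.card K ^ finrank K L - 1 := by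
    have := Nat.sub_dvd_pow_sub_pow (Nat.card K) 1 (finrank K L)
    rwa [one_pow] at this
  rw [Nat.gcd_eq_right hd, Nat.mul_div_cancel' hd]

theorem count_pts [Finite W] {y : W ≃ₗ[K] W} {ω : Lˣ} {ν : Kˣ} (hω : IsGen ω) {e : W ≃ₗ[K] L × K}
    (he : ∀ v, e (y v) = ((ω : L) * (e v).1, (ν : K) * (e v).2)) (A : Set W)
    (hA : ∀ w ∈ A, (e w).1 ≠ 0 ∧ (e w).2 ≠ 0) (hc : ∀ (c : K), c ≠ 0 → ∀ w ∈ A, c • w ∈ A)
    (hy : ∀ w ∈ A, y w ∈ A) :
    ∃ i, i ≤ Nat.card K - 1 ∧ A.ncard = i * (Nat.card K ^ finrank K L - 1) ∧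
      (i = Nat.card K - 1 → ∀ w, (e w).1 ≠ 0 → (e w).2 ≠ 0 → w ∈ A) := by
  obtain ⟨q, hq⟩ : ∃ q, q = Nat.card K := ⟨_, rfl⟩
  obtain ⟨Q, hQ⟩ : ∃ Q, Q = Nat.card K ^ finrank K L := ⟨_, rfl⟩
  have hq1 : 1 < q := by rw [hq]; exact one_lt_q
  have hL : Nat.card Lˣ = Q - 1 := by rw [card_units (K := K), hQ]
  have hLpos : 0 < Q - 1 := by rw [← hL]; exact Nat.card_pos
  rw [← hQ, ← hq]
  let S : Set Lˣ := {a | e.symm ((a : L), 1) ∈ A}
  -- the bijection
  have hbij : Nat.card A = (q - 1) * Nat.card S := by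
    rw [hq, ← card_units_base, ← Nat.card_prod]
    refine Nat.card_congr ?_
    exact
      { toFun := fun w => (Units.mk0 (e w).2 (hA w w.2).2,
          ⟨Units.mk0 ((e w).2⁻¹ • (e w).1) (smul_ne_zero (inv_ne_zero (hA w w.2).2) (hA w w.2).1), by
            change e.symm (((e w).2⁻¹ • (e w).1), 1) ∈ A
            have h1 : e.symm (((e w).2⁻¹ • (e w).1), (1 : K)) = (e w).2⁻¹ • (w : W) := by
              apply e.injective
              rw [LinearEquiv.apply_symm_apply, map_smul]
              exact Prod.ext rfl (by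
                change (1 : K) = (e w).2⁻¹ * (e w).2
                rw [inv_mul_cancel₀ (hA w w.2).2])
            rw [h1]
            exact hc _ (inv_ne_zero (hA w w.2).2) _ w.2⟩)
        invFun := fun p => ⟨(p.1 : K) • e.symm (((p.2 : Lˣ) : L), 1), hc _ p.1.ne_zero _ p.2.2⟩
        left_inv := fun w => by
          apply Subtype.ext
          apply e.injective
          change e ((e w).2 • e.symm (((e w).2⁻¹ • (e w).1), 1)) = e w
          rw [map_smul, LinearEquiv.apply_symm_apply]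
          exact Prod.ext (by
            change (e w).2 • (e w).2⁻¹ • (e w).1 = (e w).1
            rw [smul_inv_smul₀ (hA w w.2).2]) (by
            change (e w).2 * 1 = (e w).2
            rw [mul_one])
        right_inv := fun p => by
          have h1 : e ((p.1 : K) • e.symm (((p.2 : Lˣ) : L), 1)) = ((p.1 : K) • ((p.2 : Lˣ) : L), (p.1 : K)) := by
            rw [map_smul, LinearEquiv.apply_symm_apply]
            exact Prod.ext rfl (mul_one _)
          refine Prod.ext (Units.ext ?_) (Subtype.ext (Units.ext ?_))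
          · exact congrArg Prod.snd h1
          · change (e ((p.1 : K) • e.symm (((p.2 : Lˣ) : L), 1))).2⁻¹ •
              (e ((p.1 : K) • e.symm (((p.2 : Lˣ) : L), 1))).1 = ((p.2 : Lˣ) : L)
            rw [h1]
            exact inv_smul_smul₀ p.1.ne_zero _ }
  -- the divisibility
  have hdvd : orderOf (ω ^ (q - 1)) ∣ Nat.card S := by
    rw [← Nat.card_zpowers]
    refine card_dvd_closed _ _ fun d hd a ha => ?_
    rw [← mem_powers_iff_mem_zpowers] at hd
    obtain ⟨i, rfl⟩ := hd
    have h1 := pow_mem_of hy ((q - 1) * i) _ ha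
    have h2 : (y ^ ((q - 1) * i)) (e.symm ((a : L), (1 : K))) =
        e.symm ((((ω ^ (q - 1)) ^ i * a : Lˣ) : L), (1 : K)) := by
      apply e.injective
      rw [twoT_pow he, LinearEquiv.apply_symm_apply, LinearEquiv.apply_symm_apply, pow_mul, pow_mul ν]
      have h3 : ν ^ (q - 1) = 1 := by
        rw [hq, ← card_units_base]
        exact pow_card_eq_one'
      rw [h3, one_pow]
      simp
    rw [h2] at h1
    exact h1
  have hord : (q - 1) * orderOf (ω ^ (q - 1)) = Q - 1 := by rw [hq, hQ]; exact orderOf_pow_base hω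
  obtain ⟨i, hi⟩ := hdvd
  have hcard : A.ncard = i * (Q - 1) := by
    rw [← Nat.card_coe_set_eq, hbij, hi, ← hord]
    ring
  -- the set of all
  let E : Set W := {w | (e w).1 ≠ 0 ∧ (e w).2 ≠ 0}
  have hE : E.ncard = (q - 1) * (Q - 1) := by
    rw [← Nat.card_coe_set_eq, ← hL, hq, ← card_units_base, ← Nat.card_prod]
    refine Nat.card_congr ?_
    exact
      { toFun := fun w => (Units.mk0 (e w).2 w.2.2, Units.mk0 (e w).1 w.2.1)
        invFun := fun p => ⟨e.symm ((p.2 : L), (p.1 : K)), by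
          change (e (e.symm _)).1 ≠ 0 ∧ (e (e.symm _)).2 ≠ 0
          rw [LinearEquiv.apply_symm_apply]
          exact ⟨p.2.ne_zero, p.1.ne_zero⟩⟩
        left_inv := fun w => by
          apply Subtype.ext
          exact e.symm_apply_apply _
        right_inv := fun p => by
          refine Prod.ext (Units.ext ?_) (Units.ext ?_)
          · change (e (e.symm ((p.2 : L), (p.1 : K)))).2 = _
            rw [LinearEquiv.apply_symm_apply]
          · change (e (e.symm ((p.2 : L), (p.1 : K)))).1 = _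
            rw [LinearEquiv.apply_symm_apply] }
  have hsub : A ⊆ E := fun w hw => hA w hw
  refine ⟨i, ?_, hcard, fun hi' w h1 h2 => ?_⟩
  · have h3 := Set.ncard_le_ncard hsub (Set.toFinite _)
    rw [hE, hcard] at h3
    exact Nat.le_of_mul_le_mul_right h3 hLpos
  · have h3 : A = E := Set.eq_of_subset_of_ncard_le hsub (by rw [hE, hcard, hi']) (Set.toFinite _)
    rw [h3]
    exact ⟨h1, h2⟩

theorem card_ker [Finite W] {φ : W →ₗ[K] K} (hφ : φ ≠ 0) :
    {w : W | w ≠ 0 ∧ φ w = 0}.ncard = Nat.card K ^ (finrank K W - 1) - 1 := by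
  have hfin : Module.Finite K W := Module.Finite.of_finite
  have h1 : finrank K (LinearMap.ker φ) = finrank K W - 1 := by
    have h2 := LinearMap.finrank_range_add_finrank_ker φ
    have h3 : finrank K (LinearMap.range φ) = 1 := by
      rw [LinearMap.range_eq_top.2 (LinearMap.surjective hφ), finrank_top, finrank_self]
    omega
  rw [← h1, ← Module.natCard_eq_pow_finrank]
  have h2 : {w : W | w ≠ 0 ∧ φ w = 0} = (LinearMap.ker φ : Set W) \ {0} := by
    ext w
    simp only [and_comm, _root_.ne_eq, _root_.Set.mem_ofPred_eq, _root_.Set.mem_sdiff, _root_.SetLike.mem_coe, _root_.LinearMap.mem_ker, _root_.Set.mem_singleton_iff]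
  rw [h2, Set.ncard_sdiff_singleton_of_mem (by simp)]
  rfl

theorem exists_form : ∃ ℓ : L →ₗ[K] K, ℓ ≠ 0 := by
  obtain ⟨ℓ, hℓ⟩ := LinearMap.exists_leftInverse_of_injective (Algebra.linearMap K L)
    (LinearMap.ker_eq_bot.2 (algebraMap K L).injective)
  refine ⟨ℓ, fun h => ?_⟩
  rw [h, LinearMap.zero_comp] at hℓ
  exact zero_ne_one (congrArg (fun f : K →ₗ[K] K => f 1) hℓ)

theorem exists_dual [Finite W] (e : W ≃ₗ[K] L × K) {ℓ : L →ₗ[K] K} (hℓ : ℓ ≠ 0) :
    ∃ e' : Dual K W ≃ₗ[K] L × K, ∀ φ v, φ v = ℓ ((e' φ).1 * (e v).1) + (e' φ).2 * (e v).2 := by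
  have hfin : Module.Finite K W := Module.Finite.of_finite
  have hfinL : Module.Finite K L := Module.Finite.of_finite
  let f : L × K →ₗ[K] Dual K W :=
    { toFun := fun p =>
        { toFun := fun v => ℓ (p.1 * (e v).1) + p.2 * (e v).2
          map_add' := fun v w => by
            simp only [map_add, Prod.fst_add, Prod.snd_add, mul_add]
            ring
          map_smul' := fun c v => by
            simp only [map_smul, Prod.smul_fst, Prod.smul_snd, Algebra.mul_smul_comm, smul_eq_mul, RingHom.id_apply]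
            ring }
      map_add' := fun p p' => by
        ext v
        simp only [Prod.fst_add, Prod.snd_add, add_mul, map_add, LinearMap.coe_mk, AddHom.coe_mk, LinearMap.add_apply]
        ring
      map_smul' := fun c p => by
        ext v
        simp only [Prod.smul_fst, Prod.smul_snd, Algebra.smul_mul_assoc, map_smul, smul_eq_mul, LinearMap.coe_mk,
          AddHom.coe_mk, LinearMap.smul_apply, RingHom.id_apply]
        ring }
  have hf : ∀ p v, f p v = ℓ (p.1 * (e v).1) + p.2 * (e v).2 := fun p v => rfl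
  have hinj : Function.Injective f := by
    rw [injective_iff_map_eq_zero]
    rintro ⟨b, d⟩ h
    have hd : d = 0 := by
      have h1 := congrArg (fun g : Dual K W => g (e.symm (0, 1))) h
      simp only [LinearMap.zero_apply, hf, LinearEquiv.apply_symm_apply] at h1
      simpa using h1
    have hb : b = 0 := by
      by_contra hb
      apply hℓ
      ext a
      have h1 := congrArg (fun g : Dual K W => g (e.symm (b⁻¹ * a, 0))) h
      simp only [LinearMap.zero_apply, hf, LinearEquiv.apply_symm_apply, mul_zero, add_zero] at h1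
      rw [mul_inv_cancel_left₀ hb] at h1
      rw [h1, LinearMap.zero_apply]
    rw [hd, hb]
    rfl
  have hdim : finrank K (L × K) = finrank K (Dual K W) := by
    rw [Subspace.dual_finrank_eq, e.finrank_eq]
  let E : (L × K) ≃ₗ[K] Dual K W := LinearEquiv.ofInjectiveOfFinrankEq f hinj hdim
  refine ⟨E.symm, fun φ v => ?_⟩
  have h1 : E (E.symm φ) = f (E.symm φ) := rfl
  rw [← hf, ← h1, LinearEquiv.apply_symm_apply]

end Cfsg.Agent.H184.Cov
end

-- part: H184/Cov/KSide
section
/-!
# S2499, linear groups: the overgroups of an element of type `(n - 1, 1)` (helper184)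

`kside` : a subgroup of `GL(V)` containing `x = (ω, ν)` on `V = L × K`, `ω` a generator of `Lˣ`, is transitive on
the points, or fixes a point, or fixes a hyperplane.
-/

set_option autoImplicit false
set_option linter.unusedSectionVars false

namespace Cfsg.Agent.H184.Cov

open Module

theorem double_sum {α β : Type*} [Finite α] [Finite β] (A : Set α) (B : Set β) (R : α → β → Prop) {a b : ℕ}
    (ha : ∀ x ∈ A, {y | y ∈ B ∧ R x y}.ncard = a) (hb : ∀ y ∈ B, {x | x ∈ A ∧ R x y}.ncard = b) :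
    A.ncard * a = B.ncard * b := by
  classical
  have : Fintype α := Fintype.ofFinite α
  have : Fintype β := Fintype.ofFinite β
  have h := Finset.sum_card_bipartiteAbove_eq_sum_card_bipartiteBelow (s := A.toFinset) (t := B.toFinset) R
  have h1 : ∀ x ∈ A.toFinset, (Finset.bipartiteAbove R B.toFinset x).card = a := by
    intro x hx
    rw [Set.mem_toFinset] at hx
    rw [← ha x hx, Set.ncard_eq_toFinset_card']
    congr 1
    ext y
    simp only [Finset.mem_bipartiteAbove, _root_.Set.mem_toFinset, _root_.Set.toFinset_ofPred, _root_.Finset.mem_filter, _root_.Finset.mem_univ, _root_.true_and]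
  have h2 : ∀ y ∈ B.toFinset, (Finset.bipartiteBelow R A.toFinset y).card = b := by
    intro y hy
    rw [Set.mem_toFinset] at hy
    rw [← hb y hy, Set.ncard_eq_toFinset_card']
    congr 1
    ext x
    simp only [Finset.mem_bipartiteBelow, _root_.Set.mem_toFinset, _root_.Set.toFinset_ofPred, _root_.Finset.mem_filter, _root_.Finset.mem_univ, _root_.true_and]
  rw [Finset.sum_congr rfl h1, Finset.sum_congr rfl h2, Finset.sum_const, Finset.sum_const, smul_eq_mul,
    smul_eq_mul, ← Set.ncard_eq_toFinset_card', ← Set.ncard_eq_toFinset_card'] at h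
  exact h

theorem double_sum' {α β : Type*} [Finite α] [Finite β] (A : Set α) (B C : Set β) (hBC : Disjoint B C)
    (R : α → β → Prop) {a b c : ℕ} (ha : ∀ x ∈ A, {y | y ∈ B ∪ C ∧ R x y}.ncard = a)
    (hb : ∀ y ∈ B, {x | x ∈ A ∧ R x y}.ncard = b) (hc : ∀ y ∈ C, {x | x ∈ A ∧ R x y}.ncard = c) :
    A.ncard * a = B.ncard * b + C.ncard * c := by
  classical
  have : Fintype α := Fintype.ofFinite α
  have : Fintype β := Fintype.ofFinite β
  have h := Finset.sum_card_bipartiteAbove_eq_sum_card_bipartiteBelow (s := A.toFinset)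
    (t := B.toFinset ∪ C.toFinset) R
  have h1 : ∀ x ∈ A.toFinset, (Finset.bipartiteAbove R (B.toFinset ∪ C.toFinset) x).card = a := by
    intro x hx
    rw [Set.mem_toFinset] at hx
    rw [← ha x hx, Set.ncard_eq_toFinset_card']
    congr 1
    ext y
    simp only [Finset.mem_bipartiteAbove, or_and_right, _root_.Finset.mem_union, _root_.Set.mem_toFinset, _root_.Set.mem_union, _root_.Set.toFinset_ofPred, _root_.Finset.mem_filter, _root_.Finset.mem_univ, _root_.true_and]
  have h2 : ∀ y ∈ B.toFinset, (Finset.bipartiteBelow R A.toFinset y).card = b := by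
    intro y hy
    rw [Set.mem_toFinset] at hy
    rw [← hb y hy, Set.ncard_eq_toFinset_card']
    congr 1
    ext x
    simp only [Finset.mem_bipartiteBelow, _root_.Set.mem_toFinset, _root_.Set.toFinset_ofPred, _root_.Finset.mem_filter, _root_.Finset.mem_univ, _root_.true_and]
  have h3 : ∀ y ∈ C.toFinset, (Finset.bipartiteBelow R A.toFinset y).card = c := by
    intro y hy
    rw [Set.mem_toFinset] at hy
    rw [← hc y hy, Set.ncard_eq_toFinset_card']
    congr 1
    ext x
    simp only [Finset.mem_bipartiteBelow, _root_.Set.mem_toFinset, _root_.Set.toFinset_ofPred, _root_.Finset.mem_filter, _root_.Finset.mem_univ, _root_.true_and]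
  rw [Finset.sum_union (by simpa using hBC), Finset.sum_congr rfl h1, Finset.sum_congr rfl h2,
    Finset.sum_congr rfl h3, Finset.sum_const, Finset.sum_const, Finset.sum_const, smul_eq_mul,
    smul_eq_mul, smul_eq_mul, ← Set.ncard_eq_toFinset_card', ← Set.ncard_eq_toFinset_card',
    ← Set.ncard_eq_toFinset_card'] at h
  exact h

/-- the arithmetic -/
theorem arith {m X i j : ℕ} (hm : 1 ≤ m) (hX : (m + 1) * (m + 1) ≤ X) (hi : i ≤ m) (hj : j ≤ m)
    (h : (1 + i) * (m + j * (X - 1)) = m + j * ((m + 1) * X - 1)) : j = 0 ∨ i = m := by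
  by_contra hcon
  push Not at hcon
  obtain ⟨Y, rfl⟩ : ∃ Y, X = Y + 1 := ⟨X - 1, by
    have : 0 < (m + 1) * (m + 1) := by positivity
    omega⟩
  obtain ⟨r, hr⟩ : ∃ r, m = i + r + 1 := ⟨m - i - 1, by omega⟩
  obtain ⟨s, rfl⟩ : ∃ s, j = s + 1 := ⟨j - 1, by omega⟩
  obtain ⟨u, hu⟩ : ∃ u, m = s + 1 + u := ⟨m - (s + 1), by omega⟩
  have h1 : (m + 1) * (Y + 1) - 1 = (m + 1) * Y + m := by
    have : (m + 1) * (Y + 1) = (m + 1) * Y + m + 1 := by ring
    omega
  rw [h1, Nat.add_sub_cancel] at h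
  -- `i (m - j) = j X (m - i)`
  have h2 : i * u = (s + 1) * (Y + 1) * (r + 1) := by
    have h3 : i * u + ((1 + i) * (s + 1) * Y + i * (s + 1) + m + (s+1) * m * 0) =
        (s + 1) * (Y + 1) * (r + 1) + ((1 + i) * (s + 1) * Y + i * (s + 1) + m) := by
      have h4 : (1 + i) * (m + (s + 1) * Y) = m + i * (s + 1 + u) + (1 + i) * (s + 1) * Y := by
        conv_lhs => rw [mul_add, add_mul, one_mul]
        conv_lhs => enter [1, 2, 2]; rw [hu]
        ring
      have h5 : m + (s + 1) * ((m + 1) * Y + m) = m + (s + 1) * ((i + r + 1 + 1) * Y + (i + r + 1)) := by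
        rw [hr]
      rw [h4, h5] at h
      linarith only [h]
    omega
  have h3 : i * u ≤ m * m := Nat.mul_le_mul (by omega) (by omega)
  have h4 : (Y + 1) * 1 ≤ (s + 1) * (Y + 1) * (r + 1) := by
    refine Nat.mul_le_mul ?_ (by omega)
    calc Y + 1 = 1 * (Y + 1) := (one_mul _).symm
      _ ≤ (s + 1) * (Y + 1) := Nat.mul_le_mul_right _ (by omega)
  have h5 : (m + 1) * (m + 1) = m * m + 2 * m + 1 := by ring
  omega

variable {K : Type} [Field K] [Finite K] {V : Type} [AddCommGroup V] [Module K V] [Finite V]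
  {L : Type} [Field L] [Algebra K L] [Finite L]

theorem mul_mem_dual {H : Subgroup (V ≃ₗ[K] V)} (φ0 : Dual K V) :
    ∀ h ∈ H, ∀ φ : Dual K V, (∃ c : K, c ≠ 0 ∧ ∃ k ∈ H, ∀ v, φ v = c * φ0 (k v)) →
      ∃ c : K, c ≠ 0 ∧ ∃ k ∈ H, ∀ v, (φ ∘ₗ (h : V →ₗ[K] V)) v = c * φ0 (k v) := by
  rintro h hh φ ⟨c, hc, k, hk, hφ⟩
  exact ⟨c, hc, k * h, H.mul_mem hk hh, fun v => hφ (h v)⟩

theorem kside {H : Subgroup (V ≃ₗ[K] V)} {x : V ≃ₗ[K] V} (hx : x ∈ H) {ω : Lˣ} {ν : Kˣ} (hω : IsGen ω)
    (ht : TwoT L K x ω ν) (hk : 3 ≤ finrank K L) :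
    (∀ v w : V, v ≠ 0 → w ≠ 0 → ∃ h ∈ H, ∃ c : K, h v = c • w) ∨
      (∃ v, v ≠ 0 ∧ ∀ h ∈ H, ∃ c : K, h v = c • v) ∨
      (∃ φ : Dual K V, φ ≠ 0 ∧ ∀ h ∈ H, ∃ c : K, ∀ v, φ (h v) = c * φ v) := by
  classical
  obtain ⟨e, he⟩ := ht
  obtain ⟨ℓ, hℓ⟩ := exists_form (K := K) (L := L)
  obtain ⟨e', he'⟩ := exists_dual e hℓ
  have hfin : Module.Finite K V := Module.Finite.of_finite
  have hfinL : Module.Finite K L := Module.Finite.of_finite
  have hfinD : Finite (Dual K V) := Module.finite_of_finite K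
  -- the action of `x` on the dual space
  have hx' : ∀ φ : Dual K V, e' (x.dualMap φ) = ((ω : L) * (e' φ).1, (ν : K) * (e' φ).2) := by
    intro φ
    have h1 : x.dualMap φ = e'.symm ((ω : L) * (e' φ).1, (ν : K) * (e' φ).2) := by
      ext v
      rw [LinearEquiv.dualMap_apply, he' φ (x v), he' (e'.symm _) v, LinearEquiv.apply_symm_apply, he]
      change ℓ ((e' φ).1 * ((ω : L) * (e v).1)) + (e' φ).2 * ((ν : K) * (e v).2) =
        ℓ ((ω : L) * (e' φ).1 * (e v).1) + (ν : K) * (e' φ).2 * (e v).2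
      rw [show (e' φ).1 * ((ω : L) * (e v).1) = (ω : L) * (e' φ).1 * (e v).1 by ring]
      ring
    rw [h1, LinearEquiv.apply_symm_apply]
  obtain ⟨φ0, hφ0⟩ : ∃ φ0, φ0 = e'.symm (0, 1) := ⟨_, rfl⟩
  have hφ0' : ∀ v, φ0 v = (e v).2 := by
    intro v
    rw [he', hφ0, LinearEquiv.apply_symm_apply, zero_mul, map_zero, zero_add, one_mul]
  have hφ00 : φ0 ≠ 0 := by
    rw [hφ0, Ne, LinearEquiv.map_eq_zero_iff]
    intro h
    exact one_ne_zero (congrArg Prod.snd h)
  let B : Set (Dual K V) := {φ | ∃ c : K, c ≠ 0 ∧ ∃ k ∈ H, ∀ v, φ v = c * φ0 (k v)}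
  have hB0 : ∀ φ ∈ B, φ ≠ 0 := by
    rintro φ ⟨c, hc, k, hk, hφ⟩ rfl
    apply hφ00
    ext v
    have h1 := hφ (k.symm v)
    rw [LinearMap.zero_apply, LinearEquiv.apply_symm_apply] at h1
    rw [LinearMap.zero_apply]
    exact (mul_eq_zero.1 h1.symm).resolve_left hc
  have hBc : ∀ (c : K), c ≠ 0 → ∀ φ ∈ B, c • φ ∈ B := by
    rintro c hc φ ⟨d, hd, k, hk, hφ⟩
    exact ⟨c * d, mul_ne_zero hc hd, k, hk, fun v => by
      rw [LinearMap.smul_apply, hφ, smul_eq_mul, mul_assoc]⟩
  have hBH : ∀ h ∈ H, ∀ φ ∈ B, φ ∘ₗ (h : V →ₗ[K] V) ∈ B := mul_mem_dual φ0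
  have hBx : ∀ φ ∈ B, x.dualMap φ ∈ B := hBH x hx
  have hφ0B : φ0 ∈ B := ⟨1, one_ne_zero, 1, H.one_mem, fun v => by rw [one_mul]; rfl⟩
  let A : Set V := {v | v ≠ 0 ∧ ∃ φ ∈ B, φ v = 0}
  have hAc : ∀ (c : K), c ≠ 0 → ∀ v ∈ A, c • v ∈ A := by
    rintro c hc v ⟨hv, φ, hφ, h⟩
    exact ⟨smul_ne_zero hc hv, φ, hφ, by rw [map_smul, h, smul_zero]⟩
  have hAH : ∀ h ∈ H, ∀ v ∈ A, h v ∈ A := by
    rintro h hh v ⟨hv, φ, hφ, h0⟩
    refine ⟨by rwa [Ne, LinearEquiv.map_eq_zero_iff], _, hBH h⁻¹ (H.inv_mem hh) φ hφ, ?_⟩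
    change φ (h.symm (h v)) = 0
    rw [LinearEquiv.symm_apply_apply, h0]
  -- powers of `x`
  have hxpow : ∀ a b : L, a ≠ 0 → b ≠ 0 → ∃ i : ℕ, ((ω ^ i : Lˣ) : L) * a = b := by
    intro a b ha hb
    obtain ⟨i, hi⟩ := hω.exists_pow (Units.mk0 b hb / Units.mk0 a ha)
    refine ⟨i, ?_⟩
    rw [hi, Units.val_div_eq_div_val, Units.val_mk0, Units.val_mk0, div_mul_cancel₀ _ ha]
  have hAt : ∀ v ∈ A, ∀ w ∈ A, ∃ h ∈ H, h v = w := by
    rintro v ⟨hv, φ, ⟨c, hc, k, hk, hφ⟩, h⟩ w ⟨hw, φ', ⟨c', hc', k', hk', hφ'⟩, h'⟩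
    rw [hφ, hφ0'] at h
    rw [hφ', hφ0'] at h'
    have h1 := (mul_eq_zero.1 h).resolve_left hc
    have h1' := (mul_eq_zero.1 h').resolve_left hc'
    have h2 : (e (k v)).1 ≠ 0 := by
      intro h3
      apply hv
      rw [← LinearEquiv.map_eq_zero_iff k, ← LinearEquiv.map_eq_zero_iff e]
      exact Prod.ext h3 h1
    have h2' : (e (k' w)).1 ≠ 0 := by
      intro h3
      apply hw
      rw [← LinearEquiv.map_eq_zero_iff k', ← LinearEquiv.map_eq_zero_iff e]
      exact Prod.ext h3 h1'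
    obtain ⟨i, hi⟩ := hxpow _ _ h2 h2'
    refine ⟨k'⁻¹ * x ^ i * k, H.mul_mem (H.mul_mem (H.inv_mem hk') (H.pow_mem hx i)) hk, ?_⟩
    change k'.symm ((x ^ i) (k v)) = w
    rw [LinearEquiv.symm_apply_eq]
    apply e.injective
    rw [twoT_pow he, hi, h1, mul_zero, ← h1']
  -- the first case
  by_cases hcase : ∃ φ ∈ B, (e' φ).2 = 0
  · left
    obtain ⟨φ, hφ, hd⟩ := hcase
    have hall : ∀ v, v ≠ 0 → v ∈ A := by
      intro v hv
      by_cases ha : (e v).1 = 0
      · exact ⟨hv, φ, hφ, by rw [he', ha, hd, mul_zero, map_zero, zero_mul, zero_add]⟩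
      · have hb : (e' φ).1 ≠ 0 := by
          intro h
          apply hB0 φ hφ
          rw [← LinearEquiv.map_eq_zero_iff e']
          exact Prod.ext h hd
        obtain ⟨a0, ha0, ha0'⟩ : ∃ a : L, a ≠ 0 ∧ ℓ a = 0 := by
          have h1 : finrank K K < finrank K L := by rw [finrank_self]; omega
          have h3 := LinearMap.ker_ne_bot_of_finrank_lt (f := ℓ) h1
          obtain ⟨a, h4, h5⟩ := (Submodule.ne_bot_iff _).1 h3
          exact ⟨a, h5, h4⟩
        obtain ⟨i, hi⟩ := hxpow _ ((e' φ).1⁻¹ * a0) ha (mul_ne_zero (inv_ne_zero hb) ha0)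
        refine ⟨hv, _, hBH (x ^ i) (H.pow_mem hx i) φ hφ, ?_⟩
        change φ ((x ^ i) v) = 0
        rw [he', twoT_pow he, hi, hd, zero_mul, add_zero, mul_inv_cancel_left₀ hb, ha0']
    intro v w hv hw
    obtain ⟨h, hh, hhv⟩ := hAt v (hall v hv) w (hall w hw)
    exact ⟨h, hh, 1, by rw [hhv, one_smul]⟩
  right
  push Not at hcase
  -- the counts
  obtain ⟨q, hq⟩ : ∃ q, q = Nat.card K := ⟨_, rfl⟩
  obtain ⟨Q, hQ⟩ : ∃ Q, Q = Nat.card K ^ finrank K L := ⟨_, rfl⟩
  obtain ⟨X, hX⟩ : ∃ X, X = Nat.card K ^ (finrank K L - 1) := ⟨_, rfl⟩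
  have hq1 : 1 < q := by rw [hq]; exact one_lt_q
  have hQX : Q = q * X := by
    rw [hQ, hX, hq, ← pow_succ']
    congr 1
    omega
  have hXq : q * q ≤ X := by
    rw [hX, ← hq, ← pow_two]
    exact Nat.pow_le_pow_right (by omega) (by omega)
  have hdim : finrank K V = finrank K L + 1 := by
    rw [e.finrank_eq, Module.finrank_prod, finrank_self]
  let B0 : Set (Dual K V) := {φ | φ ∈ B ∧ (e' φ).1 = 0}
  let B1 : Set (Dual K V) := {φ | φ ∈ B ∧ (e' φ).1 ≠ 0}
  have hBu : B = B0 ∪ B1 := by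
    ext φ
    constructor
    · intro h
      by_cases h1 : (e' φ).1 = 0
      · exact Or.inl ⟨h, h1⟩
      · exact Or.inr ⟨h, h1⟩
    · rintro (h | h)
      · exact h.1
      · exact h.1
  have hBd : Disjoint B0 B1 := by
    rw [Set.disjoint_left]
    rintro φ ⟨-, h1⟩ ⟨-, h2⟩
    exact h2 h1
  have hB0c : B0.ncard = q - 1 := by
    rw [← Nat.card_coe_set_eq, hq, ← card_units_base]
    refine Nat.card_congr ?_
    exact
      { toFun := fun φ => Units.mk0 (e' φ).2 (hcase φ φ.2.1)
        invFun := fun c => ⟨(c : K) • φ0, hBc c c.ne_zero φ0 hφ0B, by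
          rw [map_smul, hφ0, LinearEquiv.apply_symm_apply]
          exact smul_zero _⟩
        left_inv := fun φ => by
          apply Subtype.ext
          apply e'.injective
          change e' ((e' φ).2 • φ0) = e' φ
          rw [map_smul, hφ0, LinearEquiv.apply_symm_apply]
          exact Prod.ext (by
            change (e' φ).2 • (0 : L) = (e' φ).1
            rw [smul_zero, φ.2.2]) (mul_one _)
        right_inv := fun c => by
          apply Units.ext
          change (e' ((c : K) • φ0)).2 = c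
          rw [map_smul, hφ0, LinearEquiv.apply_symm_apply]
          exact mul_one _ }
  obtain ⟨j, hj, hB1c, -⟩ := count_pts (y := x.dualMap) hω hx' B1 (fun φ h => ⟨h.2, hcase φ h.1⟩)
    (fun c hc φ h => ⟨hBc c hc φ h.1, by
      rw [map_smul]
      exact smul_ne_zero hc h.2⟩)
    (fun φ h => ⟨hBx φ h.1, by
      rw [hx']
      exact mul_ne_zero ω.ne_zero h.2⟩)
  let U : Set V := {v | v ≠ 0 ∧ (e v).2 = 0}
  let A1 : Set V := {v | v ∈ A ∧ (e v).2 ≠ 0}
  have hUA : U ⊆ A := fun v hv => ⟨hv.1, φ0, hφ0B, by rw [hφ0']; exact hv.2⟩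
  have hAu : A = U ∪ A1 := by
    ext v
    constructor
    · intro h
      by_cases h1 : (e v).2 = 0
      · exact Or.inl ⟨h.1, h1⟩
      · exact Or.inr ⟨h, h1⟩
    · rintro (h | h)
      · exact hUA h
      · exact h.1
  have hAd : Disjoint U A1 := by
    rw [Set.disjoint_left]
    rintro φ ⟨-, h1⟩ ⟨-, h2⟩
    exact h2 h1
  have hUc : U.ncard = Q - 1 := by
    have h1 : U = {v : V | v ≠ 0 ∧ φ0 v = 0} := by
      ext v
      simp only [U, hφ0']
    rw [h1, card_ker hφ00, hdim, hQ, Nat.add_sub_cancel]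
  have hA0 : ∀ v ∈ A, (e v).1 ≠ 0 := by
    rintro v ⟨hv, φ, hφ, h⟩ h1
    rw [he', h1, mul_zero, map_zero, zero_add] at h
    apply hv
    rw [← LinearEquiv.map_eq_zero_iff e]
    exact Prod.ext h1 ((mul_eq_zero.1 h).resolve_left (hcase φ hφ))
  obtain ⟨i, hi, hA1c, hAll⟩ := count_pts hω he A1 (fun v h => ⟨hA0 v h.1, h.2⟩)
    (fun c hc v h => ⟨hAc c hc v h.1, by
      rw [map_smul]
      exact smul_ne_zero hc h.2⟩)
    (fun v h => ⟨hAH x hx v h.1, by
      rw [he]
      exact mul_ne_zero ν.ne_zero h.2⟩)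
  rw [← hQ] at hB1c hA1c
  rw [← hq] at hj hi hAll
  have hAcard : A.ncard = (1 + i) * (Q - 1) := by
    rw [hAu, Set.ncard_union_eq hAd, hUc, hA1c]
    ring
  have hBcard : B.ncard = (q - 1) + j * (Q - 1) := by
    rw [hBu, Set.ncard_union_eq hBd, hB0c, hB1c]
  -- the number of hyperplanes through a point
  obtain ⟨Λ, hΛ⟩ : ∃ Λ, ∀ v ∈ A, {φ | φ ∈ B ∧ φ v = 0}.ncard = Λ := by
    obtain ⟨v0, hv0⟩ : ∃ v0, v0 ∈ U := by
      have : 0 < U.ncard := by
        rw [hUc, hQX]
        have : 2 * 1 ≤ q * X := Nat.mul_le_mul hq1 (by nlinarith only [hq1, hXq])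
        omega
      exact Set.nonempty_of_ncard_ne_zero this.ne'
    refine ⟨{φ | φ ∈ B ∧ φ v0 = 0}.ncard, fun v hv => ?_⟩
    obtain ⟨h, hh, hhv⟩ := hAt v hv v0 (hUA hv0)
    refine Set.ncard_congr (fun φ _ => φ ∘ₗ ((h⁻¹ : V ≃ₗ[K] V) : V →ₗ[K] V)) ?_ ?_ ?_
    · rintro φ ⟨h1, h2⟩
      refine ⟨hBH _ (H.inv_mem hh) φ h1, ?_⟩
      change φ (h.symm v0) = 0
      rw [← hhv, LinearEquiv.symm_apply_apply, h2]
    · intro φ φ' _ _ h1
      ext w
      have h2 := congrArg (fun f : V →ₗ[K] K => f (h w)) h1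
      change φ (h.symm (h w)) = φ' (h.symm (h w)) at h2
      rwa [LinearEquiv.symm_apply_apply] at h2
    · rintro φ ⟨h1, h2⟩
      refine ⟨φ ∘ₗ (h : V →ₗ[K] V), ⟨hBH h hh φ h1, ?_⟩, ?_⟩
      · change φ (h v) = 0
        rw [hhv, h2]
      · ext w
        change φ (h (h.symm w)) = φ w
        rw [LinearEquiv.apply_symm_apply]
  -- the double counts
  have hd1 : A.ncard * Λ = B.ncard * (Q - 1) := by
    refine double_sum A B (fun v φ => φ v = 0) hΛ fun φ hφ => ?_
    have h1 : {v | v ∈ A ∧ φ v = 0} = {v : V | v ≠ 0 ∧ φ v = 0} := by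
      ext v
      exact ⟨fun h => ⟨h.1.1, h.2⟩, fun h => ⟨⟨h.1, φ, hφ, h.2⟩, h.2⟩⟩
    rw [h1, card_ker (hB0 φ hφ), hdim, hQ, Nat.add_sub_cancel]
  have hd2 : U.ncard * Λ = B0.ncard * (Q - 1) + B1.ncard * (X - 1) := by
    refine double_sum' U B0 B1 hBd (fun v φ => φ v = 0) (fun v hv => ?_) (fun φ hφ => ?_) fun φ hφ => ?_
    · rw [← hBu]
      exact hΛ v (hUA hv)
    · have h1 : {v | v ∈ U ∧ φ v = 0} = U := by
        ext v
        refine ⟨fun h => h.1, fun h => ⟨h, ?_⟩⟩
        rw [he', hφ.2, zero_mul, map_zero, zero_add, h.2, mul_zero]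
      rw [h1, hUc]
    · -- the form on `L`
      let ψ : L →ₗ[K] K := φ ∘ₗ (e.symm : L × K →ₗ[K] V) ∘ₗ LinearMap.inl K L K
      have hψ : ∀ a, ψ a = φ (e.symm (a, 0)) := fun a => rfl
      have hψ0 : ψ ≠ 0 := by
        intro h
        apply hℓ
        ext a
        have h1 := congrArg (fun f : L →ₗ[K] K => f ((e' φ).1⁻¹ * a)) h
        simp only [LinearMap.zero_apply, hψ] at h1
        rw [he', LinearEquiv.apply_symm_apply, mul_zero, add_zero, mul_inv_cancel_left₀ hφ.2] at h1
        rw [h1, LinearMap.zero_apply]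
      have h1 : {v | v ∈ U ∧ φ v = 0}.ncard = {a : L | a ≠ 0 ∧ ψ a = 0}.ncard := by
        refine Set.ncard_congr (fun v _ => (e v).1) ?_ ?_ ?_
        · rintro v ⟨⟨hv, h1⟩, h2⟩
          refine ⟨fun h3 => hv ?_, ?_⟩
          · rw [← LinearEquiv.map_eq_zero_iff e]
            exact Prod.ext h3 h1
          · have h4 : ((e v).1, (0 : K)) = e v := Prod.ext rfl h1.symm
            change ψ (e v).1 = 0
            rw [hψ, h4, LinearEquiv.symm_apply_apply, h2]
        · rintro v w ⟨⟨-, h1⟩, -⟩ ⟨⟨-, h2⟩, -⟩ h3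
          exact e.injective (Prod.ext h3 (h1.trans h2.symm))
        · rintro a ⟨h1, h2⟩
          refine ⟨e.symm (a, 0), ⟨⟨?_, by rw [LinearEquiv.apply_symm_apply]⟩, h2⟩, by
            rw [LinearEquiv.apply_symm_apply]⟩
          rw [Ne, LinearEquiv.map_eq_zero_iff]
          exact fun h3 => h1 (congrArg Prod.fst h3)
      rw [h1, card_ker hψ0, hX]
  have hQ1 : 0 < Q - 1 := by
    rw [hQX]
    have : 2 * 1 ≤ q * X := Nat.mul_le_mul hq1 (by nlinarith only [hq1, hXq])
    omega
  have hΛ' : Λ = (q - 1) + j * (X - 1) := by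
    rw [hUc, hB0c, hB1c] at hd2
    have h1 : (Q - 1) * Λ = (Q - 1) * ((q - 1) + j * (X - 1)) := by
      rw [hd2]
      ring
    exact Nat.eq_of_mul_eq_mul_left hQ1 h1
  have hfinal : (1 + i) * ((q - 1) + j * (X - 1)) = (q - 1) + j * (q * X - 1) := by
    rw [hAcard, hBcard, hΛ'] at hd1
    have h1 : (Q - 1) * ((1 + i) * ((q - 1) + j * (X - 1))) = (Q - 1) * ((q - 1) + j * (Q - 1)) := by
      rw [mul_comm (Q - 1) ((q - 1) + j * (Q - 1)), ← hd1]
      ring
    rw [Nat.eq_of_mul_eq_mul_left hQ1 h1, hQX]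
  obtain ⟨m, rfl⟩ : ∃ m, q = m + 1 := ⟨q - 1, by (clear * - hq1; omega)⟩
  rw [Nat.add_sub_cancel] at hfinal hi hj hAll
  rcases arith (by omega) hXq hi hj hfinal with h | h
  · -- a fixed hyperplane
    right
    refine ⟨φ0, hφ00, fun h' hh => ?_⟩
    have h1 : φ0 ∘ₗ (h' : V →ₗ[K] V) ∈ B := hBH h' hh φ0 hφ0B
    have h2 : φ0 ∘ₗ (h' : V →ₗ[K] V) ∉ B1 := by
      rw [h, zero_mul, Set.ncard_eq_zero] at hB1c
      rw [hB1c]
      exact Set.notMem_empty _
    have h3 : (e' (φ0 ∘ₗ (h' : V →ₗ[K] V))).1 = 0 := by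
      by_contra hcon
      exact h2 ⟨h1, hcon⟩
    refine ⟨(e' (φ0 ∘ₗ (h' : V →ₗ[K] V))).2, fun v => ?_⟩
    have h4 : φ0 (h' v) = (φ0 ∘ₗ (h' : V →ₗ[K] V)) v := rfl
    rw [h4, he', h3, zero_mul, map_zero, zero_add, hφ0']
  · -- a fixed point
    left
    refine ⟨e.symm (0, 1), ?_, fun h' hh => ?_⟩
    · rw [Ne, LinearEquiv.map_eq_zero_iff]
      intro h1
      exact one_ne_zero (congrArg Prod.snd h1)
    · have hP : e.symm (0, 1) ∉ A := fun h1 => hA0 _ h1 (by rw [LinearEquiv.apply_symm_apply])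
      have h1 : h' (e.symm (0, 1)) ∉ A := by
        intro h2
        apply hP
        have h3 := hAH h'⁻¹ (H.inv_mem hh) _ h2
        change h'.symm (h' _) ∈ A at h3
        rwa [LinearEquiv.symm_apply_apply] at h3
      have h2 : (e (h' (e.symm (0, 1)))).1 = 0 := by
        by_contra hcon
        apply h1
        by_cases h3 : (e (h' (e.symm (0, 1)))).2 = 0
        · refine hUA ⟨?_, h3⟩
          rw [Ne, LinearEquiv.map_eq_zero_iff, LinearEquiv.map_eq_zero_iff]
          intro h4
          exact one_ne_zero (congrArg Prod.snd h4)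
        · exact (hAll h _ hcon h3).1
      refine ⟨(e (h' (e.symm (0, 1)))).2, ?_⟩
      apply e.injective
      rw [map_smul, LinearEquiv.apply_symm_apply]
      exact Prod.ext (by
        change _ = (e (h' (e.symm (0, 1)))).2 • (0 : L)
        rw [h2, smul_zero]) (mul_one _).symm

end Cfsg.Agent.H184.Cov
end
end

-- part: H184/Cov/Kills
section
prune_inst 0x4004000154002000000000640202004300005b000000000e92004c2010080e2cd4020410c0020001a0281010000000804101814200000000a000000000101000000020031100c0002001e000004000000000000000000000000000000000000000000000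
set_option linter.all false
open scoped Cfsg.Agent.FastGrp

-- part: H184/Cov/HSide
section
/-!
# S2499, linear groups: overgroups of a Singer cycle and an element of type `(n - 2, 2)` (helper184)

`hside` : a subgroup of `GL(V)` containing the `(q - 1)`-st power `s` of a Singer cycle and `g = (ω₁, ω₂)` on
`V = L × M`, `ω₁`, `ω₂` generators, `dim M = 2`, is transitive on the nonzero vectors.
-/

set_option autoImplicit false
set_option linter.unusedSectionVars false

namespace Cfsg.Agent.H184.Cov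

open Module

variable {K : Type} [Field K] [Finite K] {V : Type} [AddCommGroup V] [Module K V] [Finite V]

theorem free_zpowers {z : V ≃ₗ[K] V} {A : Set V} (hA : ∀ a ∈ A, z a ∈ A)
    (hf : ∀ a ∈ A, ∀ i : ℕ, (z ^ i) a = a → z ^ i = 1) : orderOf z ∣ A.ncard := by
  have hfin : Finite (V ≃ₗ[K] V) := DFunLike.finite _
  have hA' : ∀ d ∈ Subgroup.zpowers z, ∀ a ∈ A, d a ∈ A := by
    intro d hd a ha
    rw [← mem_powers_iff_mem_zpowers] at hd
    obtain ⟨i, rfl⟩ := hd
    exact pow_mem_of hA i a ha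
  letI act : MulAction (Subgroup.zpowers z) A :=
    { smul := fun d a => ⟨(d : V ≃ₗ[K] V) a, hA' d d.2 a a.2⟩
      one_smul := fun a => Subtype.ext rfl
      mul_smul := fun d d' a => Subtype.ext rfl }
  rw [← Nat.card_zpowers, ← Nat.card_coe_set_eq]
  refine Cfsg.Agent.H23.FreeAct.card_dvd_of_free fun d a hd => ?_
  have h1 : (d : V ≃ₗ[K] V) a = a := congrArg Subtype.val hd
  have h2 := d.2
  rw [← mem_powers_iff_mem_zpowers] at h2
  obtain ⟨i, hi⟩ := h2
  have hi' : z ^ i = (d : V ≃ₗ[K] V) := hi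
  apply Subtype.ext
  rw [← hi'] at h1 ⊢
  exact hf a a.2 i h1

/-- the order of `ω ^ (q² - 1)` is large -/
theorem big_order {q k r : ℕ} (hq : 2 ≤ q) (hk : 3 ≤ k) (hr : 0 < r) (h : q ^ k - 1 ∣ (q ^ 2 - 1) * r) :
    q ^ 2 - 1 < r := by
  obtain ⟨m, rfl⟩ : ∃ m, q = m + 1 := ⟨q - 1, by omega⟩
  have hm : 1 ≤ m := by omega
  have e2 : (m + 1) ^ 2 - 1 = m * (m + 2) := by
    have : (m + 1) ^ 2 = m * (m + 2) + 1 := by ring
    omega
  rcases Nat.lt_or_ge k 4 with h1 | h1
  · obtain rfl : k = 3 := by omega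
    have e3 : (m + 1) ^ 3 - 1 = m * (m ^ 2 + 3 * m + 3) := by
      have : (m + 1) ^ 3 = m * (m ^ 2 + 3 * m + 3) + 1 := by ring
      omega
    rw [e2, e3, mul_assoc] at h
    have h2 : m ^ 2 + 3 * m + 3 ∣ (m + 2) * r := Nat.dvd_of_mul_dvd_mul_left (by omega) h
    have h3 : Nat.Coprime (m ^ 2 + 3 * m + 3) (m + 2) := by
      have : m ^ 2 + 3 * m + 3 = 1 + (m + 2) * (m + 1) := by ring
      rw [this]
      simp
    have h4 := Nat.le_of_dvd hr (h3.dvd_of_dvd_mul_left h2)
    rw [e2]
    linarith only [h4]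
  · have h2 := Nat.le_of_dvd (Nat.mul_pos (by rw [e2]; positivity) hr) h
    have h3 : (m + 1) ^ 4 ≤ (m + 1) ^ k := Nat.pow_le_pow_right (by omega) h1
    by_contra hcon
    push Not at hcon
    rw [e2] at h2 hcon
    have h4 : m * (m + 2) * r ≤ m * (m + 2) * (m * (m + 2)) := Nat.mul_le_mul_left _ hcon
    have h5 : (m + 1) ^ 4 = m * (m + 2) * (m * (m + 2)) + 2 * (m * (m + 2)) + 1 := by ring
    have h6 : 0 < m * (m + 2) := by positivity
    omega

theorem arith_h {m j ε r N : ℕ} (hj : j ≤ m) (hm : 1 ≤ m) (hr : m * (m + 2) < r)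
    (hε : ε = 0 ∨ ε = 1) (hN : N ≡ m + 2 [MOD r]) (h : j * N ≡ ε * (m * (m + 2)) [MOD r]) : j = 0 ∨ j = m := by
  have h1 : j * (m + 2) ≡ ε * (m * (m + 2)) [MOD r] := ((Nat.ModEq.refl j).mul hN).symm.trans h
  have h2 : j * (m + 2) ≤ m * (m + 2) := Nat.mul_le_mul_right _ hj
  have h3 : ε * (m * (m + 2)) ≤ m * (m + 2) := by rcases hε with rfl | rfl <;> omega
  have h4 : j * (m + 2) = ε * (m * (m + 2)) := Nat.ModEq.eq_of_lt_of_lt h1 (by omega) (by omega)
  rcases hε with rfl | rfl
  · left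
    rw [zero_mul] at h4
    rcases Nat.mul_eq_zero.1 h4 with h5 | h5
    · exact h5
    · omega
  · right
    rw [one_mul] at h4
    exact Nat.eq_of_mul_eq_mul_right (by omega) h4

variable {S : Type} [Field S] [Algebra K S] [Finite S] {L : Type} [Field L] [Algebra K L] [Finite L]
  {M : Type} [Field M] [Algebra K M] [Finite M]

theorem hside {H : Subgroup (V ≃ₗ[K] V)} {s g : V ≃ₗ[K] V} (hs : s ∈ H) (hg : g ∈ H) {γ : Sˣ} (hγ : IsGen γ)
    (h1 : OneT S s (γ ^ (Nat.card K - 1))) {ω₁ : Lˣ} {ω₂ : Mˣ} (hω₁ : IsGen ω₁) (hω₂ : IsGen ω₂)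
    (h2 : TwoT L M g ω₁ ω₂) (hM : finrank K M = 2) (hL : 3 ≤ finrank K L) :
    ∀ v w : V, v ≠ 0 → w ≠ 0 → ∃ h ∈ H, h v = w := by
  intro v w hv hw
  have hfin : Module.Finite K V := Module.Finite.of_finite
  obtain ⟨e, he⟩ := h1
  obtain ⟨f, hf⟩ := h2
  obtain ⟨q, hq⟩ : ∃ q, q = Nat.card K := ⟨_, rfl⟩
  have hq1 : 1 < q := by rw [hq]; exact one_lt_q
  let A : Set V := {w | ∃ h ∈ H, h v = w}
  have hAH : ∀ h ∈ H, ∀ w ∈ A, h w ∈ A := by
    rintro h hh w ⟨k, hk, rfl⟩
    exact ⟨h * k, H.mul_mem hh hk, rfl⟩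
  have hA0 : ∀ w ∈ A, w ≠ 0 := by
    rintro w ⟨k, hk, rfl⟩
    rwa [Ne, LinearEquiv.map_eq_zero_iff]
  -- the Singer cycle
  obtain ⟨N, hN⟩ : ∃ N, N = orderOf s := ⟨_, rfl⟩
  have hNn : (q - 1) * N = q ^ finrank K V - 1 := by
    rw [hN, OneT.orderOf ⟨e, he⟩, hq, orderOf_pow_base hγ, e.finrank_eq]
  have hNA : N ∣ A.ncard := by
    rw [hN]
    refine free_zpowers (hAH s hs) fun a ha i hi => ?_
    have h3 := oneT_pow he i a
    rw [hi] at h3
    have h4 : e a ≠ 0 := by
      rw [Ne, LinearEquiv.map_eq_zero_iff]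
      exact hA0 a ha
    have h5 : ((γ ^ (Nat.card K - 1)) ^ i : Sˣ) = 1 := by
      apply Units.ext
      rw [Units.val_one]
      exact mul_right_cancel₀ h4 (by rw [one_mul]; exact h3.symm)
    apply LinearEquiv.ext
    intro u
    apply e.injective
    rw [oneT_pow he, h5, Units.val_one, one_mul]
    rfl
  -- the element of type `(n - 2, 2)`
  obtain ⟨z, hz⟩ : ∃ z, z = g ^ (q ^ 2 - 1) := ⟨_, rfl⟩
  have hzH : z ∈ H := by rw [hz]; exact H.pow_mem hg _
  have hν : ω₂ ^ (q ^ 2 - 1) = 1 := by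
    rw [hq, ← hM, ← card_units (K := K) (L := M)]
    exact pow_card_eq_one'
  obtain ⟨η, hη⟩ : ∃ η, η = ω₁ ^ (q ^ 2 - 1) := ⟨_, rfl⟩
  have hzf : ∀ v, f (z v) = ((η : L) * (f v).1, ((1 : Mˣ) : M) * (f v).2) := by
    intro v
    rw [hz, twoT_pow hf, hν, hη]
  obtain ⟨r, hr⟩ : ∃ r, r = orderOf z := ⟨_, rfl⟩
  have hrη : orderOf z = orderOf η := by
    rw [orderOf_eq_orderOf_iff]
    intro n
    rw [TwoT.pow_eq_one_iff ⟨f, hzf⟩, one_pow]
    simp
  have hr0 : 0 < r := by
    rw [hr, hrη]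
    exact orderOf_pos η
  have hdvd : q ^ finrank K L - 1 ∣ (q ^ 2 - 1) * r := by
    have h3 : ω₁ ^ ((q ^ 2 - 1) * r) = 1 := by rw [pow_mul, ← hη, hr, hrη, pow_orderOf_eq_one]
    have h4 := orderOf_dvd_of_pow_eq_one h3
    rwa [hω₁.orderOf, card_units (K := K), ← hq] at h4
  have hbig := big_order hq1 hL hr0 hdvd
  -- the congruences
  let A1 : Set V := {w | w ∈ A ∧ (f w).1 ≠ 0}
  let A2 : Set V := {w | w ∈ A ∧ (f w).1 = 0}
  have hAu : A = A1 ∪ A2 := by
    ext w
    constructor
    · intro h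
      by_cases h1 : (f w).1 = 0
      · exact Or.inr ⟨h, h1⟩
      · exact Or.inl ⟨h, h1⟩
    · rintro (h | h)
      · exact h.1
      · exact h.1
  have hAd : Disjoint A1 A2 := by
    rw [Set.disjoint_left]
    rintro φ ⟨-, h1⟩ ⟨-, h2⟩
    exact h1 h2
  have hrA : r ∣ A1.ncard := by
    rw [hr]
    refine free_zpowers (fun a ha => ⟨hAH z hzH a ha.1, ?_⟩) fun a ha i hi => ?_
    · rw [hzf]
      exact mul_ne_zero η.ne_zero ha.2
    · have h3 := twoT_pow hzf i a
      rw [hi] at h3
      have h4 : (f a).1 = ((η ^ i : Lˣ) : L) * (f a).1 := congrArg Prod.fst h3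
      rw [TwoT.pow_eq_one_iff ⟨f, hzf⟩, one_pow]
      refine ⟨Units.ext ?_, rfl⟩
      rw [Units.val_one]
      exact mul_right_cancel₀ ha.2 (by rw [one_mul]; exact h4.symm)
  have hA2 : ∃ ε, (ε = 0 ∨ ε = 1) ∧ A2.ncard = ε * (q ^ 2 - 1) := by
    by_cases hemp : A2 = ∅
    · exact ⟨0, Or.inl rfl, by rw [hemp, Set.ncard_empty, zero_mul]⟩
    · obtain ⟨u, hu, hu0⟩ := Set.nonempty_iff_ne_empty.2 hemp
      have hu2 : (f u).2 ≠ 0 := by
        intro h3
        apply hA0 u hu
        rw [← LinearEquiv.map_eq_zero_iff f]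
        exact Prod.ext hu0 h3
      refine ⟨1, Or.inr rfl, ?_⟩
      rw [one_mul, hq, ← hM, ← card_units (K := K) (L := M), ← Nat.card_coe_set_eq]
      refine Nat.card_congr ?_
      exact
        { toFun := fun w => Units.mk0 (f w).2 (by
            intro h3
            apply hA0 w w.2.1
            rw [← LinearEquiv.map_eq_zero_iff f]
            exact Prod.ext w.2.2 h3)
          invFun := fun b => ⟨f.symm (0, (b : M)), by
            refine ⟨?_, by rw [LinearEquiv.apply_symm_apply]⟩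
            obtain ⟨i, hi⟩ := hω₂.exists_pow (b / Units.mk0 _ hu2)
            have h3 : f.symm (0, (b : M)) = (g ^ i) u := by
              apply f.injective
              rw [LinearEquiv.apply_symm_apply, twoT_pow hf, hi, Units.val_div_eq_div_val, Units.val_mk0,
                div_mul_cancel₀ _ hu2, hu0, mul_zero]
            rw [h3]
            exact hAH _ (H.pow_mem hg i) u hu⟩
          left_inv := fun w => by
            apply Subtype.ext
            apply f.injective
            change f (f.symm (0, (f w).2)) = f w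
            rw [LinearEquiv.apply_symm_apply]
            exact Prod.ext w.2.2.symm rfl
          right_inv := fun b => by
            apply Units.ext
            change (f (f.symm (0, (b : M)))).2 = b
            rw [LinearEquiv.apply_symm_apply] }
  obtain ⟨ε, hε, hA2c⟩ := hA2
  obtain ⟨j, hj⟩ := hNA
  -- the whole space
  let T : Set V := {w | w ≠ 0}
  have hT : T.ncard = q ^ finrank K V - 1 := by
    have h3 : T = Set.univ \ {0} := by
      ext w
      simp [T]
    rw [h3, Set.ncard_sdiff_singleton_of_mem (Set.mem_univ _), Set.ncard_univ, Module.natCard_eq_pow_finrank (K := K), hq]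
  have hAT : A ⊆ T := hA0
  have hN0 : 0 < N := by
    rw [hN, OneT.orderOf ⟨e, he⟩]
    exact orderOf_pos _
  have hjq : j ≤ q - 1 := by
    have h3 := Set.ncard_le_ncard hAT (Set.toFinite _)
    rw [hT, hj, ← hNn, mul_comm N j] at h3
    exact Nat.le_of_mul_le_mul_right h3 hN0
  obtain ⟨m, rfl⟩ : ∃ m, q = m + 1 := ⟨q - 1, by omega⟩
  rw [Nat.add_sub_cancel] at hjq hNn
  have e2 : (m + 1) ^ 2 - 1 = m * (m + 2) := by
    have : (m + 1) ^ 2 = m * (m + 2) + 1 := by ring
    omega
  have hNmod : N ≡ m + 2 [MOD r] := by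
    -- `N = q² N' + (q + 1)`
    obtain ⟨N', hN'⟩ : ∃ N', N' = orderOf (ω₁ ^ (Nat.card K - 1)) := ⟨_, rfl⟩
    have h3 : m * N' = (m + 1) ^ finrank K L - 1 := by
      rw [hN', hq, ← orderOf_pow_base hω₁, ← hq, Nat.add_sub_cancel]
    have h4 : r ∣ N' := by
      have h5 : η = (ω₁ ^ (Nat.card K - 1)) ^ (m + 2) := by
        rw [hη, e2, ← pow_mul, ← hq, Nat.add_sub_cancel]
      rw [hr, hrη, hN', h5]
      exact orderOf_pow_dvd _
    have h5 : N = (m + 1) ^ 2 * N' + (m + 2) := by
      apply Nat.eq_of_mul_eq_mul_left (show 0 < m by omega)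
      have h6 : finrank K V = 2 + finrank K L := by
        rw [f.finrank_eq, Module.finrank_prod, hM, add_comm]
      have h7 : 0 < (m + 1) ^ finrank K L := by (clear * -; positivity)
      have h8 : m * ((m + 1) ^ 2 * N' + (m + 2)) = (m + 1) ^ 2 * (m * N') + m * (m + 2) := by ring
      rw [hNn, h8, h3, h6, pow_add, ← e2, Nat.mul_sub, mul_one]
      have h9 : (m + 1) ^ 2 * 1 ≤ (m + 1) ^ 2 * (m + 1) ^ finrank K L := Nat.mul_le_mul_left _ h7
      have h10 : 0 < (m + 1) ^ 2 := by (clear * -; positivity)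
      (clear * - h9 h10; omega)
    rw [h5]
    obtain ⟨c, rfl⟩ := h4
    have : (m + 1) ^ 2 * (r * c) + (m + 2) = (m + 2) + r * ((m + 1) ^ 2 * c) := by ring
    rw [this]
    exact Nat.add_mul_mod_self_left _ _ _
  have hmod : j * N ≡ ε * (m * (m + 2)) [MOD r] := by
    have h3 : j * N = A1.ncard + A2.ncard := by
      rw [mul_comm, ← hj, hAu, Set.ncard_union_eq hAd]
    rw [h3, hA2c, e2]
    obtain ⟨c, hc⟩ := hrA
    rw [hc]
    exact Nat.mul_add_mod_self_left _ _ _
  have hall : A = T := by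
    rcases arith_h hjq (by omega) (by rw [← e2]; exact hbig) hε hNmod hmod with h3 | h3
    · exfalso
      rw [h3, mul_zero, Set.ncard_eq_zero] at hj
      have h4 : v ∈ A := ⟨1, H.one_mem, rfl⟩
      rw [hj] at h4
      exact h4
    · apply Set.eq_of_subset_of_ncard_le hAT _ (Set.toFinite _)
      rw [hT, hj, h3, mul_comm N m, hNn]
  have h3 : w ∈ A := by
    rw [hall]
    exact hw
  exact h3

end Cfsg.Agent.H184.Cov
end

-- part: H184/Cov/Kills
section
/-!
# S2499, linear groups: the two overgroup theorems (helper184)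

* `over_k` : a subgroup of `GL(V)`, `dim V = n ≥ 5`, containing an element of type `(n - 1, 1)` contains `SL(V)` or
  fixes a point or a hyperplane;
* `over_h` : a subgroup of `GL(V)` containing `s`, `g` contains `SL(V)` or preserves a structure over `𝔽_{q²}`.
-/

set_option autoImplicit false
set_option linter.unusedSectionVars false

namespace Cfsg.Agent.H184.Cov

open Module Polynomial

variable {K : Type} [Field K] [Fintype K] {V : Type} [AddCommGroup V] [Module K V] [Finite V]

/-- the group fixes a point or a hyperplane -/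
def Red (H : Subgroup (V ≃ₗ[K] V)) : Prop :=
  (∃ v, v ≠ 0 ∧ ∀ h ∈ H, ∃ c : K, h v = c • v) ∨ (∃ φ : Dual K V, φ ≠ 0 ∧ ∀ h ∈ H, ∃ c : K, ∀ v, φ (h v) = c * φ v)

theorem NoEig.conj {g : V ≃ₗ[K] V} (h : NoEig g) (k : V ≃ₗ[K] V) : NoEig (k * g * k⁻¹) := by
  refine ⟨fun v hv c hc => ?_, fun φ hφ c => ?_⟩
  · refine h.1 (k.symm v) (by rwa [Ne, LinearEquiv.map_eq_zero_iff]) c ?_
    apply k.injective
    rw [map_smul, LinearEquiv.apply_symm_apply]
    exact hc
  · by_contra hcon
    push Not at hcon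
    obtain ⟨v, hv⟩ := h.2 (φ ∘ₗ (k : V →ₗ[K] V)) (by
      intro h0
      apply hφ
      ext v
      have h1 := congrArg (fun f : V →ₗ[K] K => f (k.symm v)) h0
      change φ (k (k.symm v)) = 0 at h1
      rwa [LinearEquiv.apply_symm_apply] at h1) c
    apply hv
    have h1 := hcon (k v)
    change φ (k (g (k.symm (k v)))) = c * φ (k v) at h1
    rwa [LinearEquiv.symm_apply_apply] at h1

theorem NoEig.not_red {g : V ≃ₗ[K] V} (h : NoEig g) {H : Subgroup (V ≃ₗ[K] V)} (hg : g ∈ H) (hR : Red H) : False := by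
  rcases hR with ⟨v, hv, hR⟩ | ⟨φ, hφ, hR⟩
  · obtain ⟨c, hc⟩ := hR g hg
    exact h.1 v hv c hc
  · obtain ⟨c, hc⟩ := hR g hg
    obtain ⟨v, hv⟩ := h.2 φ hφ c
    exact hv (hc v)

variable {L : Type} [Field L] [Algebra K L] [Finite L]

theorem IsGen.dvd_of_pow {ω : Lˣ} (hω : IsGen ω) {i : ℕ} (h : ω ^ i = 1) : Nat.card K ^ finrank K L - 1 ∣ i := by
  rw [← card_units, ← hω.orderOf]
  exact orderOf_dvd_of_pow_eq_one h

theorem IsGen.pow_card {ω : Lˣ} : ω ^ (Nat.card K ^ finrank K L - 1) = 1 := by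
  rw [← card_units (K := K) (L := L)]
  exact pow_card_eq_one'

theorem over_k {H : Subgroup (V ≃ₗ[K] V)} (hn : 5 ≤ finrank K V) {x : V ≃ₗ[K] V} (hx : x ∈ H) {ω : Lˣ} {ν : Kˣ}
    (hω : IsGen ω) (ht : TwoT L K x ω ν) :
    (∀ g : V ≃ₗ[K] V, LinearMap.det (g : V →ₗ[K] V) = 1 → g ∈ H) ∨ Red H := by
  have hfin : Module.Finite K V := Module.Finite.of_finite
  have hfinL : Module.Finite K L := Module.Finite.of_finite
  have hdim : finrank K V = finrank K L + 1 := by
    obtain ⟨e, -⟩ := ht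
    rw [e.finrank_eq, Module.finrank_prod, finrank_self]
  have hnt : Nontrivial V := Module.nontrivial_of_finrank_pos (R := K) (by omega)
  have hq1 : 2 ≤ Nat.card K := one_lt_q
  have hk1 : ∀ c : Kˣ, c ^ (Nat.card K - 1) = 1 := by
    intro c
    rw [← card_units_base]
    exact pow_card_eq_one'
  rcases kside hx hω ht (by omega) with h | h | h
  rotate_left
  · exact Or.inr (Or.inl h)
  · exact Or.inr (Or.inr h)
  rcases her hn h with h | h | h | h | h | h
  · exact Or.inl h
  · exfalso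
    obtain ⟨b, hb2, hbn, hE⟩ := h.exists
    have h1 : b ∣ finrank K K := by
      refine ext_dvd_pow hE hx ht (i := Nat.card K - 1) (fun h1 => ?_) (hk1 ν)
      have h2 := hω.dvd_of_pow (K := K) h1
      exact num_gam_one hq1 (by omega) (by omega) (by rw [← hdim]; exact Nat.le_of_dvd (by omega) hbn) h2
    rw [finrank_self] at h1
    have := Nat.le_of_dvd one_pos h1
    omega
  · exact absurd (symp_two h hx hω ht (by omega)) id
  · exfalso
    have h1 : TwoT L K (x ^ (Nat.card K - 1)) (ω ^ (Nat.card K - 1)) 1 := by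
      have := ht.pow (Nat.card K - 1)
      rwa [hk1] at this
    obtain ⟨t, h2, h3⟩ := gam_two h (H.pow_mem hx _) h1 (fun h2 => by
      have h3 := hω.dvd_of_pow (K := K) h2
      exact num_gam_one (t := 1) hq1 (k := finrank K L) (by omega) (by omega) (by omega) (by rwa [mul_one]))
    rw [finrank_self, one_mul] at h2
    rw [← pow_mul] at h3
    exact num_gam_one hq1 (by omega) (by omega) (by omega) (hω.dvd_of_pow (K := K) h3)
  · exfalso
    refine thi_kill h hx fun h1 => ?_
    have h2 : ω ^ orderOf x = 1 := (ht.pow_eq_one_iff.1 (pow_orderOf_eq_one x)).1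
    have h3 := (hω.dvd_of_pow (K := K) h2).trans h1
    obtain ⟨h4, h5, -⟩ := h
    have h6 : finrank K L = 5 := by omega
    rw [Nat.card_eq_fintype_card, h5, h6] at h3
    norm_num at h3
  · exfalso
    have h0 := h
    obtain ⟨h4, h5, -⟩ := h0
    have h6 : finrank K L = 5 := by omega
    have h7 : Nat.card K = 2 := by rw [Nat.card_eq_fintype_card, h5]
    have hν : ν = 1 := by
      have := hk1 ν
      rwa [h7, show 2 - 1 = 1 by rfl, pow_one] at this
    rw [hν] at ht
    have h8 : ω ^ 31 = 1 := by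
      have := IsGen.pow_card (K := K) (ω := ω)
      rwa [h6, h7] at this
    have h9 : ω ≠ 1 := by
      intro h9
      have := hω.dvd_of_pow (K := K) (i := 1) (by rw [pow_one, h9])
      rw [h6, h7] at this
      norm_num at this
    refine uni_kill h hx (r := 31) (ht.pow_eq_one_iff.2 ⟨h8, one_pow _⟩) (Or.inl ⟨rfl, ?_⟩)
    rw [(card_fix_two ht h9).1, finrank_self, h7, pow_one]

theorem num_ext {q k b : ℕ} (hq : 2 ≤ q) (hk : 3 ≤ k) (hb2 : 2 ≤ b) (hb : b ∣ k + 2) :
    ¬ (q ^ k - 1) ∣ (q ^ 2 - 1) * b := by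
  intro hd
  have h1 := big_order hq hk (by omega) hd
  have h2 := Nat.le_of_dvd (by omega) hb
  have h3 : q ^ 2 = q * q := pow_two q
  by_cases hk5 : 5 ≤ k
  · have h0 : 2 * 2 ≤ q * q := Nat.mul_le_mul hq hq
    have h4 := Nat.le_of_dvd (Nat.mul_pos (by omega) (by omega)) hd
    obtain ⟨m, hm⟩ : ∃ m, q ^ 2 = m + 1 := ⟨q ^ 2 - 1, by omega⟩
    rw [hm, Nat.add_sub_cancel] at h4
    have h5 : ∀ k, 5 ≤ k → m * (k + 2) + 1 < q ^ k := by
      intro k hk
      induction k, hk using Nat.le_induction with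
      | base =>
        have h6 : q ^ 5 = q ^ 2 * q ^ 3 := by ring
        have h7 : 2 ^ 3 ≤ q ^ 3 := Nat.pow_le_pow_left hq 3
        rw [h6, hm]
        have h8 : (m + 1) * 2 ^ 3 ≤ (m + 1) * q ^ 3 := Nat.mul_le_mul_left _ h7
        omega
      | succ k hk ih =>
        rw [pow_succ]
        have h6 : (m * (k + 2) + 1 + 1) * 2 ≤ q ^ k * q := Nat.mul_le_mul ih hq
        have h7 : m * 1 ≤ m * (k + 2) := Nat.mul_le_mul_left _ (by omega)
        have h8 : m * (k + 1 + 2) = m * (k + 2) + m := by ring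
        omega
    have h6 := h5 k hk5
    have h7 : m * b ≤ m * (k + 2) := Nat.mul_le_mul_left _ h2
    omega
  · have hq2 : q = 2 := by
      by_contra hcon
      have : 3 * 3 ≤ q * q := Nat.mul_le_mul (by omega) (by omega)
      omega
    subst hq2
    interval_cases k
    · have hb5 : b ≤ 5 := by omega
      interval_cases b <;> omega
    · have hb5 : b ≤ 6 := by omega
      interval_cases b <;> omega

variable {S : Type} [Field S] [Algebra K S] [Finite S] {M : Type} [Field M] [Algebra K M] [Finite M]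

theorem over_h {H : Subgroup (V ≃ₗ[K] V)} (hn : 5 ≤ finrank K V) {s g : V ≃ₗ[K] V} (hs : s ∈ H) (hg : g ∈ H)
    {γ : Sˣ} (hγ : IsGen γ) (h1 : OneT S s (γ ^ (Nat.card K - 1))) {ω₁ : Lˣ} {ω₂ : Mˣ} (hω₁ : IsGen ω₁)
    (hω₂ : IsGen ω₂) (h2 : TwoT L M g ω₁ ω₂) (hM : finrank K M = 2) :
    (∀ g : V ≃ₗ[K] V, LinearMap.det (g : V →ₗ[K] V) = 1 → g ∈ H) ∨ (2 ∣ finrank K V ∧ ExtB H 2) := by
  have hfin : Module.Finite K V := Module.Finite.of_finite
  have hfinL : Module.Finite K L := Module.Finite.of_finite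
  have hfinM : Module.Finite K M := Module.Finite.of_finite
  have hdim : finrank K V = finrank K L + 2 := by
    obtain ⟨e, -⟩ := h2
    rw [e.finrank_eq, Module.finrank_prod, hM]
  have hdimS : finrank K V = finrank K S := by
    obtain ⟨e, -⟩ := h1
    exact e.finrank_eq
  have hnt : Nontrivial V := Module.nontrivial_of_finrank_pos (R := K) (by omega)
  have hq1 : 2 ≤ Nat.card K := one_lt_q
  have hq2 : 4 ≤ Nat.card K ^ 2 := by nlinarith only [hq1]
  have hν : ω₂ ^ (Nat.card K ^ 2 - 1) = 1 := by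
    have := IsGen.pow_card (K := K) (ω := ω₂)
    rwa [hM] at this
  have hT := hside hs hg hγ h1 hω₁ hω₂ h2 hM (by omega)
  have hPT : PTr H := by
    intro v w hv hw
    obtain ⟨h, hh, e⟩ := hT v w hv hw
    exact ⟨h, hh, 1, by rw [e, one_smul]⟩
  rcases her hn hPT with h | h | h | h | h | h
  · exact Or.inl h
  · right
    obtain ⟨b, hb2, hbn, hE⟩ := h.exists
    have h3 : b ∣ finrank K M := by
      refine ext_dvd_pow hE hg h2 (i := Nat.card K ^ 2 - 1) (fun h3 => ?_) hν
      have h4 := hω₁.dvd_of_pow (K := K) h3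
      exact num_ext hq1 (by omega) hb2 (by rwa [← hdim]) h4
    rw [hM] at h3
    obtain rfl : b = 2 := by
      have := Nat.le_of_dvd two_pos h3
      omega
    exact ⟨hbn, hE⟩
  · exact absurd (symp_one h hs hγ h1 (by omega)) id
  · exfalso
    have h3 : TwoT L M (g ^ (Nat.card K ^ 2 - 1)) (ω₁ ^ (Nat.card K ^ 2 - 1)) 1 := by
      have := h2.pow (Nat.card K ^ 2 - 1)
      rwa [hν] at this
    obtain ⟨t, h4, h5⟩ := gam_two h (H.pow_mem hg _) h3 (fun h4 => by
      have h5 := hω₁.dvd_of_pow (K := K) h4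
      have h6 := big_order (r := 1) hq1 (k := finrank K L) (by omega) one_pos (by rwa [mul_one])
      omega)
    rw [hM] at h4
    rw [← pow_mul] at h5
    exact num_gam_two hq1 (by omega) (by omega) (hω₁.dvd_of_pow (K := K) h5)
  · exfalso
    refine thi_kill h hg fun h3 => ?_
    have h4 : ω₁ ^ orderOf g = 1 := (h2.pow_eq_one_iff.1 (pow_orderOf_eq_one g)).1
    have h5 := (hω₁.dvd_of_pow (K := K) h4).trans h3
    obtain ⟨h6, h7, -⟩ := h
    have h8 : finrank K L = 4 := by omega
    rw [Nat.card_eq_fintype_card, h7, h8] at h5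
    norm_num at h5
  · exfalso
    have h0 := h
    obtain ⟨h4, h5, -⟩ := h0
    have h6 : finrank K L = 4 := by omega
    have h7 : Nat.card K = 2 := by rw [Nat.card_eq_fintype_card, h5]
    have h3 : TwoT L M (g ^ 3) (ω₁ ^ 3) 1 := by
      have h8 := h2.pow 3
      rw [h7] at hν
      rwa [show ω₂ ^ 3 = 1 from hν] at h8
    have h8 : (ω₁ ^ 3) ^ 5 = 1 := by
      have := IsGen.pow_card (K := K) (ω := ω₁)
      rw [h6, h7] at this
      rwa [← pow_mul]
    have h9 : ω₁ ^ 3 ≠ 1 := by
      intro h9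
      have := hω₁.dvd_of_pow (K := K) h9
      rw [h6, h7] at this
      norm_num at this
    refine uni_kill h (H.pow_mem hg 3) (r := 5) (h3.pow_eq_one_iff.2 ⟨h8, one_pow _⟩) (Or.inr ⟨rfl, ?_⟩)
    rw [(card_fix_two h3 h9).1, hM, h7]
    norm_num

end Cfsg.Agent.H184.Cov
end
end
end
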